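import Mathlib
import Cfsg.Agent.CT.UEmb
import Cfsg.Agent.CT.AutSL2

/-!
Diagonal-field automorphisms of `SU`, and coherent choices of standard pairs.
-/

set_option autoImplicit false
set_option linter.unusedSectionVars false

namespace Cfsg.Agent.CT.U

open Matrix Cfsg Cfsg.Agent.Class.U

variable {F : Type*} [Field F] {q : ℕ} {n k : ℕ} [hU : UF F q]

local notation "σ" => conj F q
local notation "𝐡" => hermForm n F q

theorem map_conj (τ : F ≃+* F) (x : F) : τ (σ x) = σ (τ x) := by simp [conj_apply]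

theorem ne_zero_of_norm {a : F} (ha : a * σ a = 1) : a ≠ 0 := left_ne_zero_of_mul_eq_one ha

theorem inv_eq_conj {a : F} (ha : a * σ a = 1) : a⁻¹ = σ a := inv_eq_of_mul_eq_one_right ha

omit hU in
theorem SU_ext' {g g' : SU n F q} (h : ∀ i j, g.1.1 i j = g'.1.1 i j) : g = g' :=
  Subtype.ext (Subtype.ext (Matrix.ext h))

omit hU in
theorem smul_ee_apply (g : SU n F q) (i j : Fin n) : (g • ee F j) i = g.1.1 i j := by
  simp [SU_smul_def]

/-- Conjugation by a diagonal unitary matrix composed with a field automorphism. -/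
def dHom (c : Fin n → F) (hc : ∀ i, c i * σ (c i) = 1) (τ : F ≃+* F) : SU n F q →* SU n F q :=
  MonoidHom.mk' (fun g => mkSU (diagonal c * g.1.1.map τ * diagonal fun i => σ (c i))
    (by
      have h := pres_iff.1 (mem_SU_iff.1 g.2)
      have h1 : (g.1.1.map τ)ᵀ * (g.1.1.map τ).map σ = 1 := by
        have := congrArg (fun M => M.map (τ : F →+* F)) h
        simp only [Matrix.map_mul, Matrix.map_one _ (map_zero _) (map_one _)] at this
        rw [← this]
        congr 1
        ext i j; exact (map_conj (q := q) τ _).symm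
      have h2 : diagonal c * diagonal (fun i => σ (c i)) = 1 := by
        rw [diagonal_mul_diagonal, funext hc, diagonal_one]
      have h3 : diagonal (fun i => σ (c i)) * diagonal c = 1 := mul_eq_one_comm.1 h2
      rw [pres_iff, Matrix.map_mul, Matrix.map_mul, diagonal_map (map_zero _),
        diagonal_map (map_zero _), transpose_mul, transpose_mul, diagonal_transpose,
        diagonal_transpose]
      simp only [conj_conj, Matrix.mul_assoc]
      rw [← Matrix.mul_assoc (diagonal c), h2, Matrix.one_mul, ← Matrix.mul_assoc _ _ (diagonal c),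
        h1, Matrix.one_mul, h3])
    (by
      have : (g.1.1.map τ).det = 1 := ((τ : F →+* F).map_det g.1.1).symm.trans (by rw [g.1.2, map_one])
      rw [det_mul, det_mul, this, mul_one, ← det_mul, diagonal_mul_diagonal, funext hc,
        diagonal_one, det_one]))
    fun g g' => Subtype.ext (Subtype.ext (by
      have h3 : diagonal (fun i => σ (c i)) * diagonal c = 1 := by
        rw [diagonal_mul_diagonal, funext fun i => (mul_comm _ _).trans (hc i), diagonal_one]
      change _ * (g.1.1 * g'.1.1).map (τ : F →+* F) * _ = (_ * _ * _) * (_ * _ * _)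
      rw [Matrix.map_mul]
      simp only [Matrix.mul_assoc]
      rw [← Matrix.mul_assoc (diagonal fun i => σ (c i)), h3, Matrix.one_mul]
      rfl))

theorem dHom_apply (c : Fin n → F) (hc : ∀ i, c i * σ (c i) = 1) (τ : F ≃+* F) (g : SU n F q)
    (i j : Fin n) : (dHom c hc τ g).1.1 i j = c i * τ (g.1.1 i j) * σ (c j) := by
  change (diagonal c * g.1.1.map τ * diagonal fun i => σ (c i)) i j = _
  rw [mul_diagonal, diagonal_mul, Matrix.map_apply]

theorem dHom_injective (c : Fin n → F) (hc : ∀ i, c i * σ (c i) = 1) (τ : F ≃+* F) :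
    Function.Injective (dHom c hc τ) := fun g g' h => SU_ext' fun i j => by
  have := congrArg (fun g : SU n F q => g.1.1 i j) h
  simpa [dHom_apply, ne_zero_of_norm (hc _)] using this

theorem finite_SU : Finite (SU n F q) := by
  have := hU.finite
  infer_instance

theorem dHom_surjective (c : Fin n → F) (hc : ∀ i, c i * σ (c i) = 1) (τ : F ≃+* F) :
    Function.Surjective (dHom c hc τ) :=
  have := finite_SU (F := F) (q := q) (n := n)
  Finite.surjective_of_injective (dHom_injective c hc τ)

theorem range_comp_dHom {G : Type*} [Group G] (φ : SU n F q →* G) (c : Fin n → F)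
    (hc : ∀ i, c i * σ (c i) = 1) (τ : F ≃+* F) : (φ.comp (dHom c hc τ)).range = φ.range := by
  rw [MonoidHom.range_comp, MonoidHom.range_eq_top.2 (dHom_surjective c hc τ),
    ← MonoidHom.range_eq_map]

theorem blk_apply {f : Fin k → Fin n} (hf : Function.Injective f) (g : SU k F q) (a b : Fin k) :
    (blk hf g).1.1 (f a) (f b) = g.1.1 a b := by
  have h := congrFun ((on_ee (F := F) (q := q) hf).coord_comb (g • ee F b)) a
  rw [← emb_smul_basis (on_ee hf), coord, herm_single_right] at h
  rw [← smul_ee_apply, ← smul_ee_apply]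
  exact h

theorem dHom_blk {f : Fin k → Fin n} (hf : Function.Injective f) (c : Fin n → F)
    (hc : ∀ i, c i * σ (c i) = 1) (τ : F ≃+* F) (g : SU k F q) :
    dHom c hc τ (blk hf g) = blk hf (dHom (c ∘ f) (fun _ => hc _) τ g) := by
  obtain ⟨g', hg'⟩ : dHom c hc τ (blk hf g) ∈ (blk hf).range := by
    refine (mem_range_blk hf).2 fun i hi => funext fun l => ?_
    rw [smul_ee_apply, dHom_apply, ← smul_ee_apply, (mem_range_blk hf).1 ⟨g, rfl⟩ i hi]
    by_cases h : l = i
    · subst h; simpa using hc l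
    · simp [h]
  rw [← hg']
  congr 1
  refine SU_ext' fun a b => ?_
  rw [← blk_apply hf, hg', dHom_apply, blk_apply, dHom_apply]; rfl

theorem dHom_iL (c : Fin (n + 1) → F) (hc : ∀ i, c i * σ (c i) = 1) (τ : F ≃+* F) (g : SU n F q) :
    dHom c hc τ (iL g) = iL (dHom (c ∘ Fin.castSucc) (fun _ => hc _) τ g) := dHom_blk _ c hc τ g

theorem dHom_iR (c : Fin (n + 1) → F) (hc : ∀ i, c i * σ (c i) = 1) (τ : F ≃+* F) (g : SU n F q) :
    dHom c hc τ (iR g) = iR (dHom (c ∘ Fin.succ) (fun _ => hc _) τ g) := dHom_blk _ c hc τ g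

theorem dHom_const {c : Fin n → F} (hc : ∀ i, c i * σ (c i) = 1) (h : ∀ i j, c i = c j)
    (g : SU n F q) : dHom c hc (RingEquiv.refl F) g = g :=
  SU_ext' fun i j => by
    rw [dHom_apply, h i j, RingEquiv.refl_apply]; linear_combination g.1.1 i j * hc j

/-- A diagonal element of `SU`. -/
def diagSU (c : Fin n → F) (hc : ∀ i, c i * σ (c i) = 1) (h : ∏ i, c i = 1) : SU n F q :=
  mkSU (diagonal c) (by
    rw [pres_iff, diagonal_transpose, diagonal_map (map_zero _), diagonal_mul_diagonal, funext hc,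
      diagonal_one]) (by rw [det_diagonal, h])

theorem diagSU_mul (c : Fin n → F) (hc : ∀ i, c i * σ (c i) = 1) (h : ∏ i, c i = 1)
    (g : SU n F q) : diagSU c hc h * g = dHom c hc (RingEquiv.refl F) g * diagSU c hc h :=
  SU_ext' fun i j => by
    change (diagonal c * g.1.1) i j = ((dHom c hc (RingEquiv.refl F) g).1.1 * diagonal c) i j
    rw [diagonal_mul, mul_diagonal, dHom_apply, RingEquiv.refl_apply]
    linear_combination -(c i * g.1.1 i j) * hc j

theorem diagSU_smul_ee (c : Fin n → F) (hc : ∀ i, c i * σ (c i) = 1) (h : ∏ i, c i = 1)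
    (i : Fin n) : diagSU c hc h • ee F i = c i • ee F i := by
  funext l
  rw [smul_ee_apply]
  change diagonal c l i = _
  by_cases h : l = i
  · subst h; simp
  · simp [h]

theorem exists_norm_one_sq_ne : ∃ a : F, a * σ a = 1 ∧ a * a ≠ 1 := by
  classical
  have := hU.finite
  have := Fintype.ofFinite F
  by_contra h
  push Not at h
  have h1 : (Finset.univ.filter fun a : F => a * σ a = 1) ⊆ {1, -1} := fun a ha => by
    simpa using mul_self_eq_one_iff.1 (h a (Finset.mem_filter.1 ha).2)
  have h2 := (Finset.card_le_card h1).trans Finset.card_le_two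
  have h3 := card_norm_fiber (F := F) (q := q) one_ne_zero (map_one _)
  rw [Nat.card_eq_fintype_card, Fintype.card_subtype] at h3
  have := two_le_q F q
  omega

theorem SU2_entries (x : SU 2 F q) : x.1.1 1 1 = σ (x.1.1 0 0) ∧ x.1.1 0 0 = σ (x.1.1 1 1) ∧
    x.1.1 1 0 = -σ (x.1.1 0 1) ∧ x.1.1 0 1 = -σ (x.1.1 1 0) := by
  have h := pres_iff.1 (mem_SU_iff.1 x.2)
  have hd := x.1.2
  rw [det_fin_two] at hd
  have h00 := congrFun (congrFun h 0) 0
  have h01 := congrFun (congrFun h 0) 1
  have h10 := congrFun (congrFun h 1) 0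
  have h11 := congrFun (congrFun h 1) 1
  simp only [Matrix.mul_apply, Fin.sum_univ_two, transpose_apply, Matrix.map_apply, one_apply_eq,
    ne_eq, zero_ne_one, not_false_eq_true, one_apply_ne, one_ne_zero] at h00 h01 h10 h11
  change x.1.1 0 0 * x.1.1 1 1 - x.1.1 0 1 * x.1.1 1 0 = 1 at hd
  refine ⟨?_, ?_, ?_, ?_⟩
  · linear_combination -x.1.1 1 1 * h00 + x.1.1 1 0 * h10 + σ (x.1.1 0 0) * hd
  · linear_combination -x.1.1 0 0 * h11 + x.1.1 0 1 * h01 + σ (x.1.1 1 1) * hd
  · linear_combination -x.1.1 1 0 * h11 + x.1.1 1 1 * h01 - σ (x.1.1 0 1) * hd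
  · linear_combination -x.1.1 0 1 * h00 + x.1.1 0 0 * h10 - σ (x.1.1 1 0) * hd

/-- The Weyl element of `SU₂`. -/
def wSU : SU 2 F q := mkSU !![0, 1; -1, 0] (by
  rw [pres_iff]; ext i j; fin_cases i <;> fin_cases j <;> simp [Matrix.mul_apply]) (by simp)

theorem norm_vec {a : F} (ha : a * σ a = 1) : ∀ i, ![1, a] i * σ (![1, a] i) = 1 := by
  intro i; fin_cases i <;> simp [ha]

/-- Conjugation by `diag(1, a)` on `SU₂`. -/
def δ {a : F} (ha : a * σ a = 1) : SU 2 F q →* SU 2 F q :=
  dHom ![1, a] (norm_vec ha) (RingEquiv.refl F)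

theorem δ_val {a : F} (ha : a * σ a = 1) (x : SU 2 F q) :
    (δ ha x).1.1 = diagonal ![1, a] * x.1.1 * diagonal ![1, σ a] := by
  ext i j
  rw [δ, dHom_apply, mul_diagonal, diagonal_mul]
  fin_cases j <;> simp

theorem scalar_of_comm {M : Matrix (Fin 2) (Fin 2) F} (h : ∀ x : SU 2 F q, M * x.1.1 = x.1.1 * M) :
    M 0 1 = 0 ∧ M 1 0 = 0 ∧ M 1 1 = M 0 0 := by
  obtain ⟨a, ha, ha2⟩ := exists_norm_one_sq_ne (F := F) (q := q)
  have h1 := h (diagSU ![a, σ a] (fun i => by fin_cases i <;> simp [ha, conj_conj, mul_comm])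
    (by simpa using ha))
  have h2 := h wSU
  change M * diagonal ![a, σ a] = diagonal ![a, σ a] * M at h1
  change M * !![0, 1; -1, 0] = !![0, 1; -1, 0] * M at h2
  have e1 := congrFun (congrFun h1 0) 1
  have e2 := congrFun (congrFun h2 0) 0
  have e3 := congrFun (congrFun h2 0) 1
  rw [mul_diagonal, diagonal_mul] at e1
  simp [Matrix.mul_apply] at e1 e2 e3
  have : M 0 1 = 0 := by
    by_contra h0
    exact ha2 (mul_left_cancel₀ h0 (by linear_combination -a * e1 + M 0 1 * ha))
  exact ⟨this, by rw [← e2, this, neg_zero], e3.symm⟩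

/-- An automorphism of `SU₂` compatible with the diagonal torus is a diagonal-field
automorphism. -/
theorem exists_dHom (α : SU 2 F q ≃* SU 2 F q)
    (H : ∀ (a a' : F) (ha : a * σ a = 1) (ha' : a' * σ a' = 1) (x : SU 2 F q),
      α (δ ha (α.symm (δ ha' x))) = δ ha' (α (δ ha (α.symm x)))) :
    ∃ (c : F) (hc : c * σ c = 1) (τ : F ≃+* F), ∀ x, α x = dHom ![1, c] (norm_vec hc) τ x := by
  obtain ⟨g, τ, hg⟩ := aut_SU2 α
  obtain ⟨a, ha, ha2⟩ := exists_norm_one_sq_ne (F := F) (q := q)
  have ha1 : a ≠ 1 := by rintro rfl; simp at ha2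
  have hb : τ a * τ (σ a) = 1 := by rw [← map_mul, ha, map_one]
  have hb1 : τ a ≠ 1 := by simpa using ha1
  have dd : ∀ {u v : F}, u * v = 1 → diagonal ![1, u] * diagonal ![1, v] = 1 := fun h => by
    ext i j; fin_cases i <;> fin_cases j <;> simp [h]
  set M := g.1 * diagonal ![1, τ a] * (g⁻¹).1 with hM
  set M' := g.1 * diagonal ![1, τ (σ a)] * (g⁻¹).1 with hM'
  have MM : M' * M = 1 := by
    simp only [hM, hM', Matrix.mul_assoc, Units.inv_mul_cancel_left]
    rw [← Matrix.mul_assoc (diagonal _), dd ((mul_comm _ _).trans hb), Matrix.one_mul, Units.mul_inv]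
  have h1 : ∀ y, (α (δ ha (α.symm y))).1.1 = M * y.1.1 * M' := fun y => by
    have := hg (α.symm y)
    rw [MulEquiv.apply_symm_apply] at this
    rw [hg, this, δ_val]
    change _ * (_ * _ * _ : Matrix _ _ F).map (τ : F →+* F) * _ = _
    rw [Matrix.map_mul, Matrix.map_mul, diagonal_map (map_zero _), diagonal_map (map_zero _)]
    simp only [hM, hM', Matrix.mul_assoc, Units.inv_mul_cancel_left]
    congr 3
    · ext i; fin_cases i <;> simp
    · congr 2; ext i; fin_cases i <;> simp
  have h2 := scalar_of_comm (q := q) (M := M' * diagonal ![1, σ a] * M * diagonal ![1, a]) fun x => by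
    have := congrArg (fun y : SU 2 F q => y.1.1) (H a a ha ha x)
    simp only [h1, δ_val] at this
    have e := congrArg (fun N => M' * diagonal ![1, σ a] * N * diagonal ![1, a] * M *
      (M' * diagonal ![1, σ a] * M * diagonal ![1, a])) this
    have MM' : M * M' = 1 := mul_eq_one_comm.1 MM
    have d1 := dd ha
    have d2 := dd ((mul_comm _ _).trans ha)
    have c1 : ∀ N : Matrix (Fin 2) (Fin 2) F, M * (M' * N) = N := fun N => by
      rw [← Matrix.mul_assoc, MM', Matrix.one_mul]
    have c2 : ∀ N : Matrix (Fin 2) (Fin 2) F, M' * (M * N) = N := fun N => by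
      rw [← Matrix.mul_assoc, MM, Matrix.one_mul]
    have c3 : ∀ N : Matrix (Fin 2) (Fin 2) F, diagonal ![1, a] * (diagonal ![1, σ a] * N) = N :=
      fun N => by rw [← Matrix.mul_assoc, d1, Matrix.one_mul]
    have c4 : ∀ N : Matrix (Fin 2) (Fin 2) F, diagonal ![1, σ a] * (diagonal ![1, a] * N) = N :=
      fun N => by rw [← Matrix.mul_assoc, d2, Matrix.one_mul]
    simpa only [Matrix.mul_assoc, c1, c2, c3, c4, d2, Matrix.mul_one] using e
  -- `M` commutes with `diag(1, a)` up to the scalar `l`
  obtain ⟨l, hl⟩ : ∃ l : F, M * diagonal ![1, a] = l • (diagonal ![1, a] * M) := by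
    refine ⟨(M' * diagonal ![1, σ a] * M * diagonal ![1, a]) 0 0, ?_⟩
    have : M' * diagonal ![1, σ a] * M * diagonal ![1, a] =
        (M' * diagonal ![1, σ a] * M * diagonal ![1, a]) 0 0 • (1 : Matrix _ _ F) := by
      ext i j; fin_cases i <;> fin_cases j
      · simp
      · simpa using h2.1
      · simpa using h2.2.1
      · simpa using h2.2.2
    rw [← Matrix.mul_one (diagonal ![1, a] * M), ← Matrix.mul_smul, ← this]
    simp only [← Matrix.mul_assoc]
    rw [Matrix.mul_assoc _ M M', mul_eq_one_comm.1 MM, Matrix.mul_one, dd ha, Matrix.one_mul]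
  have dM : M 0 0 * M 1 1 - M 0 1 * M 1 0 ≠ 0 := by
    rw [← det_fin_two]
    exact (isUnit_det_of_left_inverse MM).ne_zero
  have hMg : M * g.1 = g.1 * diagonal ![1, τ a] := by
    rw [hM, Matrix.mul_assoc, Units.inv_mul, Matrix.mul_one]
  clear_value M M'
  have l00 := congrFun (congrFun hl 0) 0
  have l01 := congrFun (congrFun hl 0) 1
  have l10 := congrFun (congrFun hl 1) 0
  have l11 := congrFun (congrFun hl 1) 1
  simp only [Matrix.smul_apply, mul_diagonal, diagonal_mul, smul_eq_mul, cons_val_zero,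
    cons_val_one, cons_val_fin_one, mul_one, one_mul] at l00 l01 l10 l11
  have ha0 := ne_zero_of_norm ha
  have hl1 : l = 1 := by
    by_contra h
    have m0 : M 0 0 = 0 := by
      by_contra h0; exact h (mul_right_cancel₀ h0 (by linear_combination -l00))
    have m1 : M 0 1 ≠ 0 := fun h0 => dM (by rw [m0, h0]; ring)
    have m2 : M 1 0 ≠ 0 := fun h0 => dM (by rw [m0, h0]; ring)
    have : l = a := mul_right_cancel₀ m1 (by linear_combination -l01)
    exact ha2 (mul_right_cancel₀ m2 (by rw [this] at l10; linear_combination -l10))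
  subst hl1
  have m01 : M 0 1 = 0 := by
    by_contra h0; exact ha1 (mul_left_cancel₀ h0 (by linear_combination l01))
  have m10 : M 1 0 = 0 := by
    by_contra h0; exact ha1 (mul_left_cancel₀ h0 (by linear_combination -l10))
  have g00 := congrFun (congrFun hMg 0) 0
  have g01 := congrFun (congrFun hMg 0) 1
  have g10 := congrFun (congrFun hMg 1) 0
  have g11 := congrFun (congrFun hMg 1) 1
  simp only [mul_diagonal] at g00 g01 g10 g11
  simp only [Matrix.mul_apply, Fin.sum_univ_two, m01, m10, cons_val_zero, cons_val_one,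
    cons_val_fin_one, mul_one, zero_mul, add_zero, zero_add] at g00 g01 g10 g11
  have dg : g.1 0 0 * g.1 1 1 - g.1 0 1 * g.1 1 0 ≠ 0 := by
    rw [← det_fin_two]; exact g.det_ne_zero
  have hg' : ∀ x i j, (α x).1.1 i 0 * g.1 0 j + (α x).1.1 i 1 * g.1 1 j =
      g.1 i 0 * τ (x.1.1 0 j) + g.1 i 1 * τ (x.1.1 1 j) := fun x i j => by
    have : ((α x).1.1 * g.1) i j = (g.1 * x.1.1.map τ) i j := by
      rw [hg, Matrix.mul_assoc, Units.inv_mul, Matrix.mul_one]
    simpa only [Matrix.mul_apply, Fin.sum_univ_two, Matrix.map_apply] using this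
  have w0 : (wSU : SU 2 F q).1.1 0 1 = 1 := rfl
  have w1 : (wSU : SU 2 F q).1.1 1 0 = -1 := rfl
  by_cases h0 : g.1 0 0 = 0
  · have n1 : g.1 0 1 ≠ 0 := fun h => dg (by rw [h0, h]; ring)
    have n2 : g.1 1 0 ≠ 0 := fun h => dg (by rw [h0, h]; ring)
    have : M 1 1 = 1 := mul_right_cancel₀ n2 (by linear_combination g10)
    have h1 : g.1 1 1 = 0 := by
      by_contra h; exact hb1 (mul_left_cancel₀ h (by rw [this] at g11; linear_combination -g11))
    simp only [Fin.forall_fin_two, h0, h1, mul_zero, zero_mul, add_zero, zero_add] at hg'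
    have hc : (-(g.1 1 0 / g.1 0 1)) * σ (-(g.1 1 0 / g.1 0 1)) = 1 := by
      have e1 := (hg' wSU).1.1
      have e2 := (hg' wSU).2.2
      have e3 := (SU2_entries (α wSU)).2.2.2
      rw [w1, map_neg, map_one] at e1
      rw [w0, map_one] at e2
      rw [(eq_div_iff n1).2 (e2.trans (mul_one _))] at e3
      rw [e3] at e1
      rw [map_neg]; field_simp; linear_combination -e1
    refine ⟨_, hc, τ.trans (RingEquiv.ofBijective σ ⟨conj_injective, fun x => ⟨_, conj_conj x⟩⟩),
      fun x => SU_ext' fun i j => ?_⟩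
    obtain ⟨x1, x2, x3, x4⟩ := SU2_entries x
    rw [dHom_apply]
    change _ = _ * σ (τ _) * _
    rw [← map_conj]
    fin_cases i <;> fin_cases j
    · simpa [← x1] using mul_right_cancel₀ n1 (((hg' x).1.2).trans (mul_comm _ _))
    · have := (hg' x).1.1
      simp only [Fin.zero_eta, Fin.mk_one, cons_val_zero, cons_val_one, cons_val_fin_one, one_mul,
        ← inv_eq_conj hc]
      rw [x3, map_neg] at this
      field_simp; linear_combination this
    · have := (hg' x).2.2
      simp only [Fin.zero_eta, Fin.mk_one, cons_val_zero, cons_val_one, cons_val_fin_one, map_one]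
      rw [x4, map_neg] at this
      field_simp; linear_combination this
    · have := mul_right_cancel₀ n2 (((hg' x).2.1).trans (mul_comm _ _))
      simp only [Fin.mk_one, cons_val_one, cons_val_fin_one, ← x2, this]
      linear_combination -τ (x.1.1 0 0) * hc
  · have : M 0 0 = 1 := mul_right_cancel₀ h0 (by linear_combination g00)
    have h1 : g.1 0 1 = 0 := by
      by_contra h; exact hb1 (mul_left_cancel₀ h (by rw [this] at g01; linear_combination -g01))
    have n1 : g.1 1 1 ≠ 0 := fun h => dg (by rw [h1, h]; ring)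
    have : M 1 1 = τ a := mul_right_cancel₀ n1 (by linear_combination g11)
    have h2 : g.1 1 0 = 0 := by
      by_contra h; exact hb1 (mul_left_cancel₀ h (by rw [this] at g10; linear_combination g10))
    simp only [Fin.forall_fin_two, h1, h2, mul_zero, zero_mul, add_zero, zero_add] at hg'
    have hc : (g.1 1 1 / g.1 0 0) * σ (g.1 1 1 / g.1 0 0) = 1 := by
      have e1 := (hg' wSU).1.2
      have e2 := (hg' wSU).2.1
      have e3 := (SU2_entries (α wSU)).2.2.2
      rw [w0, map_one] at e1
      rw [w1, map_neg, map_one] at e2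
      rw [(eq_div_iff h0).2 e2, mul_neg, mul_one, neg_div, map_neg, neg_neg] at e3
      rw [← e3]; field_simp; linear_combination e1
    refine ⟨_, hc, τ, fun x => SU_ext' fun i j => ?_⟩
    rw [dHom_apply]
    fin_cases i <;> fin_cases j
    · simpa using mul_right_cancel₀ h0 (((hg' x).1.1).trans (mul_comm _ _))
    · have := (hg' x).1.2
      simp only [Fin.zero_eta, Fin.mk_one, cons_val_zero, cons_val_one, cons_val_fin_one, one_mul,
        ← inv_eq_conj hc]
      field_simp; linear_combination this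
    · have := (hg' x).2.1
      simp only [Fin.zero_eta, Fin.mk_one, cons_val_zero, cons_val_one, cons_val_fin_one, map_one]
      field_simp; linear_combination this
    · have := mul_right_cancel₀ n1 (((hg' x).2.2).trans (mul_comm _ _))
      simp only [Fin.mk_one, cons_val_one, cons_val_fin_one, this]
      linear_combination -τ (x.1.1 1 1) * hc

end Cfsg.Agent.CT.U
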