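import Mathlib
import Cfsg.Agent.CT.USemi
import Cfsg.Agent.Class.U.Simple

/-!
Phan's theorem: coherent systems of standard pairs, and the case `q ≥ 4`.
-/

set_option autoImplicit false
set_option linter.unusedSectionVars false

namespace Cfsg.Agent.CT.U

open Matrix Cfsg Cfsg.Agent.Class.U

variable {F : Type*} [Field F] {q : ℕ} {n k : ℕ} [hU : UF F q] {G : Type*} [Group G]

local notation "σ" => conj F q
local notation "𝐡" => hermForm n F q

theorem sup_iL_iR (hq : 3 ≤ q) :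
    (iL : SU 2 F q →* SU 3 F q).range ⊔ (iR : SU 2 F q →* SU 3 F q).range = ⊤ := by
  set H := (iL : SU 2 F q →* SU 3 F q).range ⊔ (iR : SU 2 F q →* SU 3 F q).range
  have u := (on_single (F := F) (q := q) (n := 3)).unit
  have o := (on_single (F := F) (q := q) (n := 3)).orth
  have key : ∀ g ∈ H, ∀ x, Col q (g • ee F (2 : Fin 3)) x → ∃ g' ∈ H, g' • ee F (2 : Fin 3) = x := by
    intro g hg x hx
    have hx' : Col q (ee F 2) (g⁻¹ • x) := by simpa using hx.smul g⁻¹
    obtain ⟨v, c, hv, hvx, hc, e⟩ := hx'.exists_basis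
    obtain ⟨a, ha⟩ := (on2 (u 2) (u 1) (o 2 1 (by decide))).witt
      (on2 (u 2) hv (herm_comm_zero hvx)) (by simp)
    have h1 := hx'.2.1
    rw [e, Data.norm_comb (u 2) hv hvx, ← Data.norm_comb (u 2) (u 1) (o 1 2 (by decide))] at h1
    obtain ⟨b, hb⟩ := (on2 (u 0) (u 2) (o 0 2 (by decide))).witt (on2 (u 0) h1 (by
      rw [herm_add_right, herm_smul_right, herm_smul_right, o 0 2 (by decide), o 0 1 (by decide)]
      ring)) (by simp)
    refine ⟨g * a * b, mul_mem (mul_mem hg (Subgroup.mem_sup_left (mem_range_iL.2 (ha 0))))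
      (Subgroup.mem_sup_right (mem_range_iR.2 (hb 0))), ?_⟩
    have a0 : a • ee F 2 = ee F 2 := ha 0
    have a1 : a • ee F 1 = v := ha 1
    have b1 : b • ee F 2 = _ := hb 1
    rw [mul_smul, mul_smul, b1]
    simp only [cons_val_one, cons_val_fin_one]
    rw [smul_add, SU_smul_comm, SU_smul_comm, a0, a1, ← e, smul_inv_smul]
  refine eq_top_iff.2 fun s _ => ?_
  obtain ⟨y, y1, y2⟩ := (on1 (u 2)).exists_col hq (z := s • ee F 2) (by rw [SU_herm, u]) (by simp)
  obtain ⟨g, hg, e⟩ := key 1 (one_mem _) y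
    (by rw [one_smul]; exact (col_of_orth y1.1 (u 2) (y2 0)).symm)
  obtain ⟨g', hg', e'⟩ := key g hg (s • ee F 2) (e ▸ y1)
  rw [← mul_inv_cancel_left g' s]
  refine mul_mem hg' (Subgroup.mem_sup_left (mem_range_iL.2 ?_))
  rw [mul_smul, inv_smul_eq_iff]; exact e'.symm

theorem hom_ext3 (hq : 3 ≤ q) {φ φ' : SU 3 F q →* G} (h1 : ∀ x, φ (iL x) = φ' (iL x))
    (h2 : ∀ x, φ (iR x) = φ' (iR x)) : φ = φ' := by
  have : φ.eqLocus φ' = ⊤ := by
    rw [eq_top_iff, ← sup_iL_iR hq]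
    refine sup_le ?_ ?_ <;> rintro _ ⟨x, rfl⟩
    exacts [h1 x, h2 x]
  exact MonoidHom.ext fun x => (this ▸ Subgroup.mem_top x : x ∈ φ.eqLocus φ')

theorem eq_one_of_center {s : SU n F q} (hn : 2 ≤ n) (hs : s ∈ Subgroup.center (SU n F q))
    {v : Fin n → F} (hv : v ≠ 0) (h : s • v = v) : s = 1 := by
  obtain ⟨e, he⟩ := (mem_center_iff hn).1 hs
  have : e = 1 := by
    have h1 := (he v).symm.trans h
    exact smul_left_injective F hv (h1.trans (one_smul _ _).symm)
  exact SU_ext fun x => by rw [he, this, one_smul, one_smul]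

theorem ee_ne_zero (i : Fin n) : ee F i ≠ 0 := by simp

/-- A homomorphism with central kernel that realises a standard pair. -/
structure Std (θ : SU 3 F q →* G) (A B V : Subgroup G) : Prop where
  left : (θ.comp iL).range = A
  right : (θ.comp iR).range = B
  range : θ.range = V
  ker : θ.ker ≤ Subgroup.center _

theorem exists_std {A B V : Subgroup G} (h : IsStandardUnitaryPair V A B F q) :
    ∃ θ : SU 3 F q →* G, Std θ A B V := by
  rcases h with ⟨ψ, h1, h2⟩ | ⟨ψ, h1, h2⟩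
  · refine ⟨_, by rw [MonoidHom.range_comp, ← suBlock_left, h1],
      by rw [MonoidHom.range_comp, ← suBlock_right, h2], ?_, fun x hx => ?_⟩
    · rw [MonoidHom.range_comp, MonoidHom.range_eq_top.2 ψ.surjective, ← MonoidHom.range_eq_map,
        Subgroup.range_subtype]
    · have : x = 1 := by simpa using hx
      rw [this]; exact one_mem _
  · refine ⟨_, by rw [MonoidHom.range_comp, ← suBlock_left, h1],
      by rw [MonoidHom.range_comp, ← suBlock_right, h2], ?_, fun x hx => ?_⟩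
    · rw [MonoidHom.range_comp, MonoidHom.range_eq_top.2
        (ψ.surjective.comp (QuotientGroup.mk'_surjective _)), ← MonoidHom.range_eq_map,
        Subgroup.range_subtype]
    · simpa using hx

theorem dHom_congr {c c' : Fin n → F} (hc : ∀ i, c i * σ (c i) = 1) (hc' : ∀ i, c' i * σ (c' i) = 1)
    (h : ∀ i j, c i * σ (c j) = c' i * σ (c' j)) (τ : F ≃+* F) (g : SU n F q) :
    dHom c hc τ g = dHom c' hc' τ g :=
  SU_ext' fun i j => by rw [dHom_apply, dHom_apply]; linear_combination τ (g.1.1 i j) * h i j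

theorem norm3 {a b c : F} (ha : a * σ a = 1) (hb : b * σ b = 1) (hc : c * σ c = 1) :
    ∀ i, ![a, b, c] i * σ (![a, b, c] i) = 1 := by
  intro i; fin_cases i; exacts [ha, hb, hc]

theorem norm_one : (1 : F) * σ 1 = 1 := by simp

theorem norm_conj {a : F} (ha : a * σ a = 1) : σ a * σ (σ a) = 1 := by rw [conj_conj, mul_comm, ha]

/-- The element `diag(a, a⁻¹)` of `SU₂`. -/
def dd {a : F} (ha : a * σ a = 1) : SU 2 F q :=
  diagSU ![a, σ a] (fun i => by fin_cases i; exacts [ha, norm_conj ha]) (by simpa using ha)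

theorem iL_dd {a : F} (ha : a * σ a = 1) :
    iL (dd ha) = diagSU ![a, σ a, 1] (norm3 ha (norm_conj ha) norm_one)
      (by simpa [Fin.prod_univ_three] using ha) := by
  obtain ⟨g, hg⟩ := (mem_range_iL (n := 2)).2 ((diagSU_smul_ee ![a, σ a, 1]
    (norm3 ha (norm_conj ha) norm_one) (by simpa [Fin.prod_univ_three] using ha) 2).trans
      (one_smul _ _))
  rw [← hg]
  congr 1
  refine SU_ext' fun i j => ?_
  rw [← blk_apply (Fin.castSucc_injective 2) g]
  change _ = (iL g).1.1 _ _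
  rw [hg]
  change diagonal _ _ _ = diagonal _ _ _
  fin_cases i <;> fin_cases j <;> simp

theorem iR_dd {a : F} (ha : a * σ a = 1) :
    iR (dd ha) = diagSU ![1, a, σ a] (norm3 norm_one ha (norm_conj ha))
      (by simpa [Fin.prod_univ_three] using ha) := by
  obtain ⟨g, hg⟩ := (mem_range_iR (n := 2)).2 ((diagSU_smul_ee ![1, a, σ a]
    (norm3 norm_one ha (norm_conj ha)) (by simpa [Fin.prod_univ_three] using ha) 0).trans
      (one_smul _ _))
  rw [← hg]
  congr 1
  refine SU_ext' fun i j => ?_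
  rw [← blk_apply (Fin.succ_injective 2) g]
  change _ = (iR g).1.1 _ _
  rw [hg]
  change diagonal _ _ _ = diagonal _ _ _
  fin_cases i <;> fin_cases j <;> simp

theorem iL_dd_mul {a : F} (ha : a * σ a = 1) (x : SU 2 F q) :
    iL (dd ha) * iR x = iR (δ ha x) * iL (dd ha) := by
  rw [iL_dd, diagSU_mul, dHom_iR, δ]
  congr 2
  refine dHom_congr _ _ (fun i j => ?_) _ _
  fin_cases i <;> fin_cases j <;> simp [ha, conj_conj, mul_comm]

theorem iR_dd_mul {a : F} (ha : a * σ a = 1) (x : SU 2 F q) :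
    iR (dd ha) * iL x = iL (δ ha x) * iR (dd ha) := by
  rw [iR_dd, diagSU_mul, dHom_iL, δ]
  congr 2
  refine dHom_congr _ _ (fun i j => ?_) _ _
  fin_cases i <;> fin_cases j <;> simp

/-- Two embeddings of `SU₂` with the same image and commuting tori differ by a diagonal-field
automorphism. -/
theorem exists_match {φ φ' : SU 2 F q →* G} (hφ : Function.Injective φ)
    (hφ' : Function.Injective φ') (h : φ.range = φ'.range)
    (d d' : ∀ a : F, a * σ a = 1 → G) (hd : ∀ a ha x, d a ha * φ x = φ (δ ha x) * d a ha)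
    (hd' : ∀ a ha x, d' a ha * φ' x = φ' (δ ha x) * d' a ha)
    (hc : ∀ a ha a' ha', Commute (d a ha) (d' a' ha')) :
    ∃ (c : F) (hc : c * σ c = 1) (τ : F ≃+* F), ∀ x, φ x = φ' (dHom ![1, c] (norm_vec hc) τ x) := by
  let α : SU 2 F q ≃* SU 2 F q := (MonoidHom.ofInjective hφ).trans
    ((MulEquiv.subgroupCongr h).trans (MonoidHom.ofInjective hφ').symm)
  have hα : ∀ x, φ' (α x) = φ x := fun x =>
    MonoidHom.apply_ofInjective_symm hφ' (MulEquiv.subgroupCongr h (MonoidHom.ofInjective hφ x))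
  have hα' : ∀ x, φ (α.symm x) = φ' x := fun x => by rw [← hα, MulEquiv.apply_symm_apply]
  obtain ⟨c, hc, τ, H⟩ := exists_dHom α fun a a' ha ha' x => hφ' (by
    have e1 : ∀ y, φ (δ ha y) = d a ha * φ y * (d a ha)⁻¹ := fun y => by rw [hd]; group
    have e2 : ∀ y, φ' (δ ha' y) = d' a' ha' * φ' y * (d' a' ha')⁻¹ := fun y => by rw [hd']; group
    rw [hα, e1, hα', e2, e2, hα, e1, hα']
    have := (hc a ha a' ha').eq
    calc _ = (d a ha * d' a' ha') * φ' x * (d a ha * d' a' ha')⁻¹ := by group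
      _ = _ := by rw [this]; group)
  exact ⟨c, hc, τ, fun x => by rw [← H, hα]⟩

namespace Std

variable {θ : SU 3 F q →* G} {A B V : Subgroup G} (h : Std θ A B V)
include h

theorem injL : Function.Injective (θ.comp iL) :=
  (injective_iff_map_eq_one _).2 fun x hx => iL_injective (by
    rw [map_one]; exact eq_one_of_center (by omega) (h.ker hx) (ee_ne_zero _) (iL_smul_last x))

theorem injR : Function.Injective (θ.comp iR) :=
  (injective_iff_map_eq_one _).2 fun x hx => iR_injective (by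
    rw [map_one]; exact eq_one_of_center (by omega) (h.ker hx) (ee_ne_zero _) (iR_smul_zero x))

theorem memL (x : SU 2 F q) : θ (iL x) ∈ A := h.left ▸ ⟨x, rfl⟩

theorem memR (x : SU 2 F q) : θ (iR x) ∈ B := h.right ▸ ⟨x, rfl⟩

theorem mem (x : SU 3 F q) : θ x ∈ V := h.range ▸ ⟨x, rfl⟩

theorem left_le : A ≤ V := by rw [← h.left]; rintro _ ⟨x, rfl⟩; exact h.mem _

theorem right_le : B ≤ V := by rw [← h.right]; rintro _ ⟨x, rfl⟩; exact h.mem _

theorem eq_sup (hq : 3 ≤ q) : V = A ⊔ B := by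
  rw [← h.range, ← h.left, ← h.right, MonoidHom.range_comp, MonoidHom.range_comp,
    ← Subgroup.map_sup, sup_iL_iR hq, MonoidHom.range_eq_map]

theorem comp_dHom (c : Fin 3 → F) (hc : ∀ i, c i * σ (c i) = 1) (τ : F ≃+* F) :
    Std (θ.comp (dHom c hc τ)) A B V where
  left := by
    rw [← h.left, ← range_comp_dHom (θ.comp iL) (c ∘ Fin.castSucc) (fun _ => hc _) τ]
    congr 1; ext x; simp [dHom_iL]
  right := by
    rw [← h.right, ← range_comp_dHom (θ.comp iR) (c ∘ Fin.succ) (fun _ => hc _) τ]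
    congr 1; ext x; simp [dHom_iR]
  range := by rw [range_comp_dHom, h.range]
  ker := fun x hx => Subgroup.mem_center_iff.2 fun y => dHom_injective c hc τ (by
    rw [map_mul, map_mul]; exact Subgroup.mem_center_iff.1 (h.ker hx) _)

theorem step {θ' : SU 3 F q →* G} {C W : Subgroup G} (h' : Std θ' B C W)
    (hc : ∀ x ∈ A, ∀ y ∈ C, x * y = y * x) :
    ∃ θ'' : SU 3 F q →* G, Std θ'' B C W ∧ ∀ x, θ (iR x) = θ'' (iL x) := by
  obtain ⟨c, hc, τ, H⟩ := exists_match h.injR h'.injL (h.right.trans h'.left.symm)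
    (fun a ha => θ (iL (dd ha))) (fun a ha => θ' (iR (dd ha)))
    (fun a ha x => by simp only [MonoidHom.comp_apply, ← map_mul θ, iL_dd_mul])
    (fun a ha x => by simp only [MonoidHom.comp_apply, ← map_mul θ', iR_dd_mul])
    fun a ha a' ha' => hc _ (h.memL _) _ (h'.memR _)
  refine ⟨_, h'.comp_dHom ![1, c, 1] (norm3 norm_one hc norm_one) τ, fun x => ?_⟩
  rw [MonoidHom.comp_apply, dHom_iL]
  refine (H x).trans (congrArg θ' (congrArg iL (dHom_congr _ _ (fun i j => ?_) _ _)))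
  fin_cases i <;> fin_cases j <;> simp

end Std

/-- A weak Phan system in dimension `d`. -/
structure Weak (F : Type*) [Field F] (q : ℕ) [UF F q] (d : ℕ) (U V : ℕ → Subgroup G) : Prop where
  std : ∀ i, i + 3 ≤ d → ∃ θ : SU 3 F q →* G, Std θ (U i) (U (i + 1)) (V i)
  comm : ∀ i j, i + 2 ≤ j → j + 2 ≤ d → ∀ x ∈ U i, ∀ y ∈ U j, x * y = y * x

theorem Weak.exists_coherent {d : ℕ} {U V : ℕ → Subgroup G} (W : Weak F q d U V) :
    ∃ ψ : ℕ → SU 3 F q →* G, (∀ i, i + 3 ≤ d → Std (ψ i) (U i) (U (i + 1)) (V i)) ∧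
      ∀ i, i + 4 ≤ d → ∀ x, ψ i (iR x) = ψ (i + 1) (iL x) := by
  have h0 : ∃ θ : SU 3 F q →* G, 3 ≤ d → Std θ (U 0) (U 1) (V 0) := by
    by_cases h : 3 ≤ d
    · obtain ⟨θ, hθ⟩ := W.std 0 h
      exact ⟨θ, fun _ => hθ⟩
    · exact ⟨1, fun h' => (h h').elim⟩
  have hs : ∀ (i : ℕ) (θ : SU 3 F q →* G), ∃ θ' : SU 3 F q →* G, i + 4 ≤ d →
      Std θ (U i) (U (i + 1)) (V i) → Std θ' (U (i + 1)) (U (i + 2)) (V (i + 1)) ∧
        ∀ x, θ (iR x) = θ' (iL x) := by
    intro i θ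
    by_cases h : i + 4 ≤ d ∧ Std θ (U i) (U (i + 1)) (V i)
    · obtain ⟨θ', hθ'⟩ := W.std (i + 1) h.1
      obtain ⟨θ'', h''⟩ := h.2.step hθ' (W.comm i (i + 2) le_rfl h.1)
      exact ⟨θ'', fun _ _ => h''⟩
    · exact ⟨1, fun a b => (h ⟨a, b⟩).elim⟩
  obtain ⟨θ₀, h0⟩ := h0
  choose f hf using hs
  have key : ∀ i, i + 3 ≤ d → Std (Nat.rec θ₀ f i : SU 3 F q →* G) (U i) (U (i + 1)) (V i) := by
    intro i
    induction i with
    | zero => exact h0
    | succ i ih => exact fun hi => (hf i _ hi (ih (by omega))).1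
  exact ⟨fun i => Nat.rec θ₀ f i, key, fun i hi => (hf i _ hi (key i (by omega))).2⟩

/-- The subgroup attached to the interval `[a, b)`. -/
def KK (U V : ℕ → Subgroup G) (a b : ℕ) : Subgroup G :=
  (⨆ (i : ℕ) (_ : a ≤ i ∧ i + 2 ≤ b), U i) ⊔ ⨆ (i : ℕ) (_ : a ≤ i ∧ i + 3 ≤ b), V i

section
variable {U V : ℕ → Subgroup G}

theorem U_le_KK {a b i : ℕ} (h1 : a ≤ i) (h2 : i + 2 ≤ b) : U i ≤ KK U V a b :=
  le_sup_of_le_left (le_iSup₂_of_le i ⟨h1, h2⟩ le_rfl)

theorem V_le_KK {a b i : ℕ} (h1 : a ≤ i) (h2 : i + 3 ≤ b) : V i ≤ KK U V a b :=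
  le_sup_of_le_right (le_iSup₂_of_le i ⟨h1, h2⟩ le_rfl)

theorem KK_le {a b : ℕ} {H : Subgroup G} (h1 : ∀ i, a ≤ i → i + 2 ≤ b → U i ≤ H)
    (h2 : ∀ i, a ≤ i → i + 3 ≤ b → V i ≤ H) : KK U V a b ≤ H :=
  sup_le (iSup₂_le fun i hi => h1 i hi.1 hi.2) (iSup₂_le fun i hi => h2 i hi.1 hi.2)

theorem KK_mono (a b a' b' : ℕ) (h1 : a' ≤ a) (h2 : b ≤ b') : KK U V a b ≤ KK U V a' b' :=
  KK_le (fun _ a b => U_le_KK (h1.trans a) (b.trans h2)) fun _ a b =>
    V_le_KK (h1.trans a) (b.trans h2)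

theorem KK_gen (a b : ℕ) (h : a + 4 ≤ b) : KK U V a b ≤ KK U V a (b - 1) ⊔ KK U V (a + 1) b := by
  refine KK_le (fun i h1 h2 => ?_) fun i h1 h2 => ?_ <;> rcases h1.eq_or_lt with rfl | h1
  · exact le_sup_of_le_left (U_le_KK le_rfl (by omega))
  · exact le_sup_of_le_right (U_le_KK h1 h2)
  · exact le_sup_of_le_left (V_le_KK le_rfl (by omega))
  · exact le_sup_of_le_right (V_le_KK h1 h2)

theorem KK_comm {d : ℕ}
    (h1 : ∀ i j, i + 2 ≤ j → j + 2 ≤ d → ∀ x ∈ U i, ∀ y ∈ U j, x * y = y * x)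
    (h2 : ∀ i j, i + 2 ≤ j → j + 3 ≤ d → ∀ x ∈ U i, ∀ y ∈ V j, x * y = y * x)
    (h3 : ∀ i j, i + 3 ≤ j → j + 2 ≤ d → ∀ x ∈ V i, ∀ y ∈ U j, x * y = y * x)
    (h4 : ∀ i j, i + 3 ≤ j → j + 3 ≤ d → ∀ x ∈ V i, ∀ y ∈ V j, x * y = y * x)
    (a b c : ℕ) (hc : c ≤ d) (x : G) (hx : x ∈ KK U V a b) (y : G) (hy : y ∈ KK U V b c) :
    Commute x y := by
  have : KK U V a b ≤ Subgroup.centralizer (KK U V b c) := by
    refine KK_le (fun i _ a => ?_) fun i _ a => ?_ <;>
      refine Subgroup.le_centralizer_iff.1 (KK_le (fun j b c => ?_) fun j b c => ?_) <;>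
      intro y hy x hx
    · exact h1 i j (by omega) (by omega) x hx y hy
    · exact h2 i j (by omega) (by omega) x hx y hy
    · exact h3 i j (by omega) (by omega) x hx y hy
    · exact h4 i j (by omega) (by omega) x hx y hy
  exact (this hx y hy).symm

theorem Weak.KK_comm {d : ℕ} (W : Weak F q d U V) (hq : 3 ≤ q) (a b c : ℕ) (hc : c ≤ d) (x : G)
    (hx : x ∈ KK U V a b) (y : G) (hy : y ∈ KK U V b c) : Commute x y := by
  have hV : ∀ i, i + 3 ≤ d → V i = U i ⊔ U (i + 1) := fun i hi => by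
    obtain ⟨θ, h⟩ := W.std i hi
    exact h.eq_sup hq
  have h2 : ∀ i j, i + 2 ≤ j → j + 3 ≤ d → ∀ x ∈ U i, ∀ y ∈ V j, x * y = y * x := by
    intro i j a b x hx y hy
    rw [hV j b] at hy
    refine (sup_le ?_ ?_ : _ ≤ Subgroup.centralizer (U i)) hy x hx
    · exact fun y hy x hx => W.comm i j a (by omega) x hx y hy
    · exact fun y hy x hx => W.comm i (j + 1) (by omega) (by omega) x hx y hy
  refine CT.U.KK_comm W.comm h2 (fun i j a b x hx y hy => ?_) (fun i j a b x hx y hy => ?_)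
    a b c hc x hx y hy <;> rw [hV i (by omega)] at hx
  · refine ((sup_le ?_ ?_ : _ ≤ Subgroup.centralizer (U j)) hx y hy).symm
    · exact fun x hx y hy => (W.comm i j (by omega) b x hx y hy).symm
    · exact fun x hx y hy => (W.comm (i + 1) j (by omega) b x hx y hy).symm
  · refine ((sup_le ?_ ?_ : _ ≤ Subgroup.centralizer (V j)) hx y hy).symm
    · exact fun x hx y hy => (h2 i j (by omega) b x hx y hy).symm
    · exact fun x hx y hy => (h2 (i + 1) j (by omega) b x hx y hy).symm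

theorem Std.supp {θ : SU 3 F q →* G} {i : ℕ} (h : Std θ (U i) (U (i + 1)) (V i)) {a b : ℕ}
    {g : SU 3 F q} (hab : a + 2 ≤ b) (hb : b ≤ 3) (hg : Supp a b g) :
    θ g ∈ KK U V (i + a) (i + b) := by
  by_cases h1 : b ≤ 2
  · obtain ⟨x, rfl⟩ := mem_range_iL.2 (hg 2 (Or.inr h1))
    exact U_le_KK (by omega) (by omega) (h.memL x)
  by_cases h2 : 1 ≤ a
  · obtain ⟨x, rfl⟩ := mem_range_iR.2 (hg 0 (Or.inl h2))
    exact U_le_KK (by omega) (by omega) (h.memR x)
  exact V_le_KK (by omega) (by omega) (h.mem g)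

theorem Std.KK_le {θ : SU 3 F q →* G} {i : ℕ} (h : Std θ (U i) (U (i + 1)) (V i)) :
    KK U V i (i + 3) ≤ θ.range := by
  rw [h.range]
  refine CT.U.KK_le (fun j a b => ?_) fun j a b => ?_
  · rcases (by omega : j = i ∨ j = i + 1) with rfl | rfl
    exacts [h.left_le, h.right_le]
  · rw [show j = i by omega]

/-- Phan's theorem for `q ≥ 4`. -/
theorem Weak.exists_hom {d : ℕ} (W : Weak F q d U V) (hq : 4 ≤ q) (hd : 3 ≤ d) :
    ∃ Φ : SU d F q →* G, KK U V 0 d ≤ Φ.range := by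
  obtain ⟨ψ, h1, h2⟩ := W.exists_coherent
  exact Sys.exists_hom (k := 2) (W.KK_comm (by omega)) KK_mono KK_gen le_rfl (Or.inr hq) hd
    ⟨h2, fun i hi _ _ _ a b c => (h1 i hi).supp a b c, fun i hi => (h1 i hi).KK_le⟩

end

/-- Extension of a family indexed by `Fin n` to the natural numbers. -/
def extU (U : Fin n → Subgroup G) (i : ℕ) : Subgroup G := if h : i < n then U ⟨i, h⟩ else ⊥

/-- Extension of a family indexed by consecutive pairs to the natural numbers. -/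
def extV (V : Fin n → Fin n → Subgroup G) (i : ℕ) : Subgroup G :=
  if h : i + 1 < n then V ⟨i, by omega⟩ ⟨i + 1, h⟩ else ⊥

theorem extU_eq (U : Fin n → Subgroup G) {i : ℕ} (h : i < n) : extU U i = U ⟨i, h⟩ := dif_pos h

theorem extV_eq (V : Fin n → Fin n → Subgroup G) {i : ℕ} (h : i + 1 < n) :
    extV V i = V ⟨i, by omega⟩ ⟨i + 1, h⟩ := dif_pos h

theorem weak_of (U : Fin n → Subgroup G) (V : Fin n → Fin n → Subgroup G)
    (h1 : ∀ i j : Fin n, (i : ℕ) + 2 ≤ j → ∀ x ∈ U i, ∀ y ∈ U j, x * y = y * x)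
    (h2 : ∀ i j : Fin n, (i : ℕ) + 1 = j → IsStandardUnitaryPair (V i j) (U i) (U j) F q) :
    Weak F q (n + 1) (extU U) (extV V) where
  std i hi := by
    rw [extU_eq U (by omega), extU_eq U (by omega : i + 1 < n), extV_eq V (by omega)]
    exact exists_std (h2 _ _ rfl)
  comm i j a b := by
    rw [extU_eq U (by omega), extU_eq U (by omega : j < n)]
    exact h1 _ _ a

theorem KK_eq_top {U : Fin n → Subgroup G} {V : Fin n → Fin n → Subgroup G}
    (h : (⨆ i, U i) ⊔ (⨆ (i : Fin n) (j : Fin n) (_ : (i : ℕ) + 1 = j), V i j) = ⊤) :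
    KK (extU U) (extV V) 0 (n + 1) = ⊤ := by
  rw [eq_top_iff, ← h]
  refine sup_le (iSup_le fun i => ?_) (iSup_le fun i => iSup_le fun j => iSup_le fun hij => ?_)
  · exact (extU_eq U i.2).ge.trans (U_le_KK (Nat.zero_le _) (by omega))
  · refine le_trans ?_ (V_le_KK (i := i) (Nat.zero_le _) (by omega))
    rw [extV_eq V (by omega)]
    exact le_of_eq (congrArg _ (Fin.ext hij.symm))

end Cfsg.Agent.CT.U
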