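import Mathlib
import Cfsg.Agent.CT.UPhan
import Cfsg.Agent.Class.U.RankOne

/-!
Transvections, and recognition of block subgroups `SU₂` of unitary groups.
-/

set_option autoImplicit false
set_option linter.unusedSectionVars false

namespace Cfsg.Agent.CT.U

open Matrix Cfsg Cfsg.Agent.Class.U

variable {F : Type*} [Field F] {q : ℕ} {n k : ℕ} [hU : UF F q] {G : Type*} [Group G]

local notation "σ" => conj F q
local notation "𝐡" => hermForm n F q

/-- `g` is a non-trivial transvection with centre `u`. -/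
def Tv (g : SU n F q) (u : Fin n → F) : Prop :=
  u ≠ 0 ∧ hermForm n F q u u = 0 ∧ ∃ a : F, a ≠ 0 ∧ IsSiegel u 0 a g

theorem tv_of_in {g : SU n F q} {w : Fin n → F} (h : ∀ x, ∃ c : F, g • x = x + c • w)
    (hg : g ≠ 1) : Tv g w := by
  obtain ⟨x, hx⟩ : ∃ x : Fin n → F, g • x ≠ x := by
    by_contra h'; push Not at h'; exact hg (SU_ext fun x => by rw [h', one_smul])
  have hw : w ≠ 0 := by rintro rfl; obtain ⟨c, hc⟩ := h x; exact hx (by simpa using hc)
  have hN : ∀ x, (g.1.1 - 1) *ᵥ x = g • x - x := fun x => by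
    rw [sub_mulVec, one_mulVec, SU_smul_def]
  obtain ⟨u, a, hu0, ha, hu, hs⟩ := (rank_eq_one_iff g).1 (by
    rw [Matrix.rank]
    apply le_antisymm
    · rw [← finrank_span_singleton (K := F) hw]
      refine Submodule.finrank_mono ?_
      rintro _ ⟨y, rfl⟩
      obtain ⟨c, hc⟩ := h y
      exact Submodule.mem_span_singleton.2 ⟨c, by rw [mulVecLin_apply, hN, hc, add_sub_cancel_left]⟩
    · rw [Nat.one_le_iff_ne_zero, Ne, Submodule.finrank_eq_zero, Submodule.eq_bot_iff]
      exact fun h0 => hx (sub_eq_zero.1 (hN x ▸ h0 _ ⟨x, rfl⟩)))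
  obtain ⟨y, hy⟩ := exists_herm_ne_zero (q := q) hu0
  obtain ⟨c, hc⟩ := h y
  rw [hs.smul_zero_vec, add_right_inj] at hc
  have h1 := mul_ne_zero ha (herm_comm_ne hy)
  obtain ⟨l, rfl⟩ : ∃ l : F, u = l • w :=
    ⟨(a * 𝐡 y u)⁻¹ * c, by rw [mul_smul, ← hc, smul_smul, inv_mul_cancel₀ h1, one_smul]⟩
  have hl : l ≠ 0 := by rintro rfl; simp at hu0
  refine ⟨hw, ?_, _, ?_, by simpa using hs.of_smul⟩
  · simpa [herm_smul_left, herm_smul_right, hl] using hu
  · simp [hl, ha]

namespace Tv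

variable {g g' : SU n F q} {u u' : Fin n → F}

theorem conj (h : Tv g u) (s : SU n F q) : Tv (s * g * s⁻¹) (s • u) := by
  obtain ⟨h1, h2, a, ha, h3⟩ := h
  exact ⟨fun h => h1 (by simpa using congrArg (s⁻¹ • ·) h), by rw [SU_herm, h2], a, ha,
    by simpa using h3.conj s⟩

theorem exists_eq (h : Tv g u) (x : Fin n → F) : ∃ c : F, g • x = x + c • u := by
  obtain ⟨-, -, a, -, h3⟩ := h
  exact ⟨_, h3.smul_zero_vec x⟩

theorem smul_eq_iff (h : Tv g u) {x : Fin n → F} : g • x = x ↔ 𝐡 x u = 0 := by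
  obtain ⟨h1, -, a, ha, h3⟩ := h
  simp [h3.smul_zero_vec, ha, h1]

theorem ne_one (h : Tv g u) : g ≠ 1 := by
  rintro rfl
  exact h.1 (eq_zero_of_herm_right (q := q) fun v => h.smul_eq_iff.1 (one_smul _ _))

theorem exists_smul (h : Tv g u) (h' : Tv g u') : ∃ l : F, u' = l • u := by
  obtain ⟨y, hy⟩ := exists_herm_ne_zero (q := q) h'.1
  obtain ⟨c, hc⟩ := h.exists_eq y
  obtain ⟨-, -, a, ha, hs⟩ := h'
  rw [hs.smul_zero_vec, add_right_inj] at hc
  have h1 := mul_ne_zero ha (herm_comm_ne hy)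
  exact ⟨(a * 𝐡 y u')⁻¹ * c, by rw [mul_smul, ← hc, smul_smul, inv_mul_cancel₀ h1, one_smul]⟩

theorem commute_iff (h : Tv g u) (h' : Tv g' u') : Commute g g' ↔ 𝐡 u u' = 0 := by
  constructor
  · intro hc
    have h1 := h.conj g'
    rw [← hc.eq, mul_inv_cancel_right] at h1
    obtain ⟨l, hl⟩ := h.exists_smul h1
    by_contra h0
    obtain ⟨-, -, a, ha, hs⟩ := h'
    rw [hs.smul_zero_vec] at hl
    have := congrArg (𝐡 u) hl
    rw [herm_add_right, herm_smul_right, herm_smul_right, h.2.1] at this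
    simp [ha, h0] at this
  · intro h0
    obtain ⟨-, -, a, -, hs⟩ := h
    obtain ⟨-, -, a', -, hs'⟩ := h'
    refine SU_ext fun x => ?_
    simp only [mul_smul, hs.smul_zero_vec, hs'.smul_zero_vec, herm_add_left, herm_smul_left, h0,
      herm_comm_zero h0]
    module

theorem pow_eq_one (h : Tv g u) {p : ℕ} (hp : (p : F) = 0) : g ^ p = 1 := by
  obtain ⟨-, h2, a, -, hs⟩ := h
  have : ∀ (m : ℕ) (x : Fin n → F), g ^ m • x = x + ((m : F) * a * 𝐡 x u) • u := by
    intro m x
    induction m with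
    | zero => simp
    | succ m ih =>
      rw [pow_succ', mul_smul, ih, hs.smul_zero_vec, herm_add_left, herm_smul_left, h2]
      push_cast; module
  exact SU_ext fun x => by simp [this, hp]

theorem emb {g : SU k F q} {u : Fin k → F} (h : Tv g u) {b : Fin k → Fin n → F} (hb : ON q b) :
    Tv (emb hb g) (comb b u) := by
  refine tv_of_in (fun x => ?_) fun e => h.ne_one (emb_injective hb (by rw [e, map_one]))
  obtain ⟨c, hc⟩ := h.exists_eq (coord q b x)
  exact ⟨c, by rw [emb_smul, hc, comb_add, comb_smul]; abel⟩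

end Tv

theorem ON.comb_coord {b : Fin n → Fin n → F} (hb : ON q b) (v : Fin n → F) :
    U.comb b (U.coord q b v) = v := by
  let f : (Fin n → F) →ₗ[F] (Fin n → F) :=
    { toFun := U.comb b, map_add' := comb_add, map_smul' := comb_smul }
  obtain ⟨x, rfl⟩ := LinearMap.surjective_of_injective (f := f) hb.comb_injective v
  exact congrArg _ (hb.coord_comb x)

/-- An orthonormal basis of a hyperbolic line. -/
theorem exists_plane_basis {r r' : Fin n → F} (hr : 𝐡 r r = 0) (h : 𝐡 r' r ≠ 0) :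
    ∃ a b, ON q ![a, b] ∧ ∀ v, (𝐡 v a = 0 ∧ 𝐡 v b = 0) ↔ (𝐡 v r = 0 ∧ 𝐡 v r' = 0) := by
  obtain ⟨k, hk⟩ := exists_add_smul_norm hr h (map_one σ)
  set a := r' + k • r with ha
  have h1 : 𝐡 a r = 𝐡 r' r := by rw [ha, herm_add_left, herm_smul_left, hr]; ring
  have h2 : 𝐡 (r - 𝐡 r a • a) (r - 𝐡 r a • a) ≠ 0 := by
    have h3 := h1 ▸ h
    simp only [herm_sub_left, herm_sub_right, herm_smul_left, herm_smul_right, hk, hr, herm_conj]
    intro h0
    exact mul_ne_zero h3 (herm_comm_ne h3) (by linear_combination -h0)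
  obtain ⟨c, hc0, hc⟩ := exists_unit_smul h2
  refine ⟨a, _, on2 hk hc (herm_comm_zero ?_), fun v => ?_⟩
  · rw [herm_smul_left, herm_sub_proj_orth hk, mul_zero]
  · rw [herm_smul_right, herm_sub_right, herm_smul_right]
    constructor
    · rintro ⟨h3, h4⟩
      have h5 : 𝐡 v r = 0 := by simpa [h3, hc0] using h4
      exact ⟨h5, by simpa [ha, herm_add_right, herm_smul_right, h5] using h3⟩
    · rintro ⟨h3, h4⟩
      have h5 : 𝐡 v a = 0 := by simp [ha, herm_add_right, herm_smul_right, h3, h4]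
      simp [h3, h5]

/-- In dimension three, perpendicular isotropic vectors are proportional. -/
theorem dep_of_orth {r r' : Fin 3 → F} (hr0 : r ≠ 0) (hr : hermForm 3 F q r r = 0)
    (hr' : hermForm 3 F q r' r' = 0) (h : hermForm 3 F q r' r = 0) : ∃ l : F, r' = l • r := by
  obtain ⟨u, v, c, hu, hv, huv, -, -, e, -⟩ := on_nil.exists_plane hr0 hr fun i => i.elim0
  obtain ⟨w, hw, hw'⟩ := (on2 hu hv huv).exists_unit (by simp)
  have hb := on3 hu hv hw huv (herm_comm_zero (hw' 0)) (herm_comm_zero (hw' 1))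
  have e' := (hb.comb_coord r').symm
  have er : r = comb ![u, v, w] ![1, c, 0] := by simp [e, comb, Fin.sum_univ_three]
  generalize coord q ![u, v, w] r' = x at e'
  subst e'
  rw [er, hb.herm_comb] at hr h
  rw [hb.herm_comb] at hr'
  simp only [herm_eq, Fin.sum_univ_three, cons_val_zero, cons_val_one, cons_val_two, tail_cons,
    head_cons, map_one, map_zero, mul_zero, add_zero, mul_one] at hr h hr'
  have h' := congrArg σ h
  simp only [map_add, map_mul, conj_conj, map_zero] at h'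
  have h2 : x 2 = 0 := by
    have : x 2 * σ (x 2) = 0 := by
      linear_combination hr' - σ (x 0) * h + x 1 * σ c * h' - x 1 * σ (x 1) * hr
    simpa using this
  refine ⟨x 0, ?_⟩
  rw [er, ← comb_smul]
  congr 1
  funext i
  fin_cases i
  · simp
  · simp only [Fin.mk_one, Pi.smul_apply, cons_val_one, cons_val_zero, smul_eq_mul]
    linear_combination x 1 * hr - c * h
  · simpa using h2

/-- `SU₂` is generated by two root groups. -/
theorem exists_gen_SU2 : ∃ (u v : Fin 2 → F) (s t : SU 2 F q), Tv s u ∧ Tv t v ∧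
    s * t * s = t * s * t ∧ s ≠ t ∧
    (∀ H : Subgroup (SU 2 F q), (∀ g, Tv g u ∨ Tv g v → g ∈ H) → H = ⊤) ∧
    (q.Prime → ∀ H : Subgroup (SU 2 F q), s ∈ H → t ∈ H → H = ⊤) := by
  have := hU.finite
  let K := RingHom.eqLocusField (conj F q) (RingHom.id F)
  obtain ⟨e, P, he⟩ := exists_SU2_equiv card_fixedField K.subtype
  have key : ∀ (i j : Fin 2) (hij : i ≠ j) (c : K), c ≠ 0 →
      Tv (e (SpecialLinearGroup.transvection hij c)) (P.1 *ᵥ ee F i) := by
    intro i j hij c hc
    refine tv_of_in (fun x => ⟨c * ((P⁻¹).1 *ᵥ x) j, ?_⟩) fun h => hc ?_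
    · rw [SU_smul_def, he, ← mulVec_mulVec, ← mulVec_mulVec, ← mulVec_smul]
      obtain ⟨y, rfl⟩ : ∃ y, x = P.1 *ᵥ y := ⟨(P⁻¹).1 *ᵥ x, by rw [mulVec_mulVec]; simp⟩
      rw [← mulVec_add, mulVec_mulVec y, P.inv_mul, one_mulVec]
      congr 1
      funext l
      fin_cases i <;> fin_cases j <;> fin_cases l <;>
        simp [SpecialLinearGroup.transvection_coe, mulVec, dotProduct] <;> ring
    · have := congrArg (fun g : SpecialLinearGroup (Fin 2) K => g i j) (e.map_eq_one_iff.1 h)
      simpa [SpecialLinearGroup.transvection_coe, hij] using this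
  have gen : ∀ H : Subgroup (SU 2 F q), (∀ c, e (SpecialLinearGroup.transvection
      (show (0 : Fin 2) ≠ 1 by decide) c) ∈ H) → (∀ c, e (SpecialLinearGroup.transvection
      (show (1 : Fin 2) ≠ 0 by decide) c) ∈ H) → H = ⊤ := by
    intro H h1 h2
    have := Class.SL_eq_top_of_transvection_mem (H.comap e.toMonoidHom) fun i j hij c => by
      fin_cases i <;> fin_cases j
      exacts [(hij rfl).elim, h1 c, h2 c, (hij rfl).elim]
    refine eq_top_iff.2 fun x _ => ?_
    obtain ⟨y, rfl⟩ := e.surjective x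
    exact (this ▸ Subgroup.mem_top y : y ∈ H.comap e.toMonoidHom)
  refine ⟨_, _, _, _, key 0 1 (by decide) 1 one_ne_zero, key 1 0 (by decide) (-1) (by simp), ?_,
    fun h => ?_, fun H hH => gen H (fun c => ?_) fun c => ?_, fun hq H h1 h2 => ?_⟩
  · simp only [← map_mul]
    congr 1
    ext i j
    fin_cases i <;> fin_cases j <;>
      simp [SpecialLinearGroup.transvection_coe, Matrix.mul_apply, Fin.sum_univ_two]
  · have := congrArg (fun g : SpecialLinearGroup (Fin 2) K => g 0 1) (e.injective h)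
    simp [SpecialLinearGroup.transvection_coe] at this
  · by_cases hc : c = 0
    · simp [hc]
    · exact hH _ (Or.inl (key _ _ _ c hc))
  · by_cases hc : c = 0
    · simp [hc]
    · exact hH _ (Or.inr (key _ _ _ c hc))
  · have hK : ∀ c : K, ∃ m : ℕ, c = m := by
      have : Fact q.Prime := ⟨hq⟩
      have hc : Nat.card (Multiplicative K) = q := card_fixedField
      intro c
      obtain ⟨m, hm⟩ := (mem_powers_iff_mem_zpowers.2 (mem_zpowers_of_prime_card hc
        (g := Multiplicative.ofAdd (1 : K)) (g' := Multiplicative.ofAdd c) (by simp)))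
      exact ⟨m, by simpa using (congrArg Multiplicative.toAdd hm).symm⟩
    have hp : ∀ (i j : Fin 2) (hij : i ≠ j) (c : K) (m : ℕ),
        SpecialLinearGroup.transvection hij (m * c) = SpecialLinearGroup.transvection hij c ^ m := by
      intro i j hij c m
      induction m with
      | zero => simp
      | succ m ih => rw [pow_succ, ← ih, ← SpecialLinearGroup.transvection_add]; congr 1; push_cast; ring
    refine gen H (fun c => ?_) fun c => ?_
    · obtain ⟨m, rfl⟩ := hK c
      rw [← mul_one (m : K), hp, map_pow]; exact pow_mem h1 _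
    · obtain ⟨m, hm⟩ := hK (-c)
      rw [show c = m * -1 by rw [← hm]; ring, hp, map_pow]; exact pow_mem h2 _

theorem not_commute_of_braid {H : Type*} [Group H] {s t : H} (h : s * t * s = t * s * t)
    (hne : s ≠ t) : ¬ Commute s t := fun hc => hne (by
  rw [hc.eq] at h
  exact mul_left_cancel h)

theorem tv_of_sq (h2 : (2 : F) = 0) {g : SU 3 F q} (hg : g * g = 1) (h1 : g ≠ 1) : ∃ r, Tv g r := by
  obtain ⟨x, hx⟩ : ∃ x : Fin 3 → F, g • x - x ≠ 0 := by
    by_contra h'; push Not at h'; exact h1 (SU_ext fun x => by rw [sub_eq_zero.1 (h' x), one_smul])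
  have key : ∀ u v : Fin 3 → F, hermForm 3 F q (g • u - u) (g • v - v) = 0 := fun u v => by
    have e := SU_herm g (g • u) v
    rw [← mul_smul, hg, one_smul] at e
    simp only [herm_sub_left, herm_sub_right, SU_herm]
    linear_combination -e + (hermForm 3 F q u v - hermForm 3 F q (g • u) v) * h2
  refine ⟨_, tv_of_in (w := g • x - x) (fun y => ?_) h1⟩
  obtain ⟨l, hl⟩ := dep_of_orth hx (key x x) (key y y) (key y x)
  exact ⟨l, by rw [← hl]; abel⟩

theorem SU2_smul_eq_neg (h2 : (2 : F) ≠ 0) {z : SU 2 F q} (hz : z * z = 1) (h1 : z ≠ 1)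
    (v : Fin 2 → F) : z • v = -v := by
  have hd := z.1.2
  rw [det_fin_two] at hd
  change z.1.1 0 0 * z.1.1 1 1 - z.1.1 0 1 * z.1.1 1 0 = 1 at hd
  have h : z.1.1 * z.1.1 = 1 := congrArg (fun g : SU 2 F q => g.1.1) hz
  have h00 := congrFun (congrFun h 0) 0
  have h01 := congrFun (congrFun h 0) 1
  have h10 := congrFun (congrFun h 1) 0
  simp only [Matrix.mul_apply, Fin.sum_univ_two, one_apply_eq, ne_eq, zero_ne_one,
    not_false_eq_true, one_apply_ne, one_ne_zero] at h00 h01 h10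
  have e1 : z.1.1 0 0 = z.1.1 1 1 := by
    linear_combination -z.1.1 0 0 * hd + z.1.1 1 1 * h00 - z.1.1 1 0 * h01
  have e2 : z.1.1 0 1 = 0 := mul_left_cancel₀ h2 (by
    linear_combination -z.1.1 0 1 * hd - z.1.1 0 1 * h00 + z.1.1 0 0 * h01)
  have e3 : z.1.1 1 0 = 0 := mul_left_cancel₀ h2 (by
    linear_combination -z.1.1 1 0 * hd - z.1.1 1 0 * h00 + z.1.1 0 0 * h10)
  rw [e2, zero_mul, add_zero, mul_self_eq_one_iff] at h00
  rcases h00 with h | h
  · refine (h1 (SU_ext' fun i j => ?_)).elim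
    fin_cases i <;> fin_cases j
    exacts [h, e2, e3, e1 ▸ h]
  · funext i
    fin_cases i <;> simp [SU_smul_def, mulVec, dotProduct, ← e1, e2, e3, h]

theorem SU2_pow_eq_one {d : SU 2 F q} {u : Fin 2 → F} (hu : u ≠ 0) (h : d • u = u) {p : ℕ}
    (hp : (p : F) = 0) : d ^ p = 1 := by
  by_cases h1 : d = 1
  · simp [h1]
  refine (tv_of_in (w := u) (fun x => ?_) h1).pow_eq_one hp
  have hd := d.1.2
  rw [det_fin_two] at hd
  change d.1.1 0 0 * d.1.1 1 1 - d.1.1 0 1 * d.1.1 1 0 = 1 at hd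
  have h0 := congrFun h 0
  have h1 := congrFun h 1
  simp only [SU_smul_def, mulVec, dotProduct, Fin.sum_univ_two] at h0 h1
  have key : ((d • x) 0 - x 0) * u 1 = ((d • x) 1 - x 1) * u 0 := by
    simp only [SU_smul_def, mulVec, dotProduct, Fin.sum_univ_two]
    linear_combination (x 0 * u 1 - x 1 * u 0) * hd + (d.1.1 1 0 * x 0 + d.1.1 1 1 * x 1) * h0 -
      (d.1.1 0 0 * x 0 + d.1.1 0 1 * x 1) * h1
  by_cases h2 : u 0 = 0
  · have h3 : u 1 ≠ 0 := fun h3 => hu (by funext i; fin_cases i; exacts [h2, h3])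
    refine ⟨((d • x) 1 - x 1) / u 1, funext fun i => ?_⟩
    fin_cases i
    · have : (d • x) 0 - x 0 = 0 := by simpa [h2, h3] using key
      simpa [h2, sub_eq_zero] using this
    · simp [h3]
  · refine ⟨((d • x) 0 - x 0) / u 0, funext fun i => ?_⟩
    fin_cases i
    · simp [h2]
    · simp only [Fin.mk_one, Pi.add_apply, Pi.smul_apply, smul_eq_mul]
      field_simp; linear_combination -key

theorem exists_stab {a : Fin (n + 1) → F} (hn : 1 ≤ n) (ha : hermForm (n + 1) F q a a = 1) :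
    ∃ s : SU (n + 1) F q, s • ee F (Fin.last n) = a ∧
      ∀ g : SU (n + 1) F q, g • a = a ↔ ∃ x, g = s * iL x * s⁻¹ := by
  obtain ⟨s, hs⟩ := (on1 (on_single.unit (Fin.last n))).witt (on1 ha) (by simp; omega)
  have hs' : s • ee F (Fin.last n) = a := hs 0
  refine ⟨s, hs', fun g => ⟨fun h => ?_, ?_⟩⟩
  · obtain ⟨x, hx⟩ := mem_range_iL.2 (show (s⁻¹ * g * s) • ee F (Fin.last n) = _ by
      rw [mul_smul, mul_smul, hs', h, inv_smul_eq_iff, hs'])
    exact ⟨x, by rw [hx]; group⟩
  · rintro ⟨x, rfl⟩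
    rw [mul_smul, mul_smul, ← hs', inv_smul_smul, iL_smul_last]

theorem card_stab {a : Fin (n + 1) → F} (hn : 1 ≤ n) (ha : hermForm (n + 1) F q a a = 1) :
    Nat.card (MulAction.stabilizer (SU (n + 1) F q) a) = Nat.card (SU n F q) := by
  obtain ⟨s, -, hs⟩ := exists_stab hn ha
  have : MulAction.stabilizer (SU (n + 1) F q) a =
      ((MulAut.conj s).toMonoidHom.comp iL).range := by
    ext g; rw [MulAction.mem_stabilizer_iff, hs]; exact exists_congr fun x => eq_comm
  rw [this]
  exact (Nat.card_congr (MonoidHom.ofInjective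
    ((MulAut.conj s).injective.comp iL_injective)).toEquiv).symm

theorem pow_eq_one_of_fix {d : SU 3 F q} {a u : Fin 3 → F} (ha : hermForm 3 F q a a = 1)
    (hu : u ≠ 0) (hua : hermForm 3 F q u a = 0) (h1 : d • a = a) (h2 : d • u = u) {p : ℕ}
    (hp : (p : F) = 0) : d ^ p = 1 := by
  obtain ⟨s, hs, h⟩ := exists_stab (n := 2) (by omega) ha
  obtain ⟨x, rfl⟩ := (h d).1 h1
  have hb := on_ee (F := F) (q := q) (Fin.castSucc_injective 2)
  have e : comb (fun a : Fin 2 => ee F a.castSucc) (fun i => (s⁻¹ • u) i.castSucc) = s⁻¹ • u := by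
    have : (s⁻¹ • u) (Fin.last 2) = 0 := by
      have := SU_herm s (s⁻¹ • u) (ee F (Fin.last 2))
      rw [smul_inv_smul, hs, hua, herm_single_right] at this
      exact this.symm
    funext i
    fin_cases i <;> simp [comb, Fin.sum_univ_two]
    exact this.symm
  rw [mul_smul, mul_smul, smul_eq_iff_eq_inv_smul, ← e, iL, blk, emb_smul_comb hb,
    hb.comb_injective.eq_iff] at h2
  have := SU2_pow_eq_one (fun h0 => hu (by
    rw [h0, comb_zero] at e; simpa using congrArg (s • ·) e.symm)) h2 hp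
  rw [conj_pow, ← map_pow, this, map_one, mul_one, mul_inv_cancel]

theorem exists_char : ∃ p : ℕ, p.Prime ∧ (p : F) = 0 ∧ p ∣ q ∧
    ∀ c : F, c ^ p = 1 → c = 1 := by
  obtain ⟨p, k, hp, hc, rfl, hk⟩ := exists_prime_pow F q
  have := Fact.mk hp
  exact ⟨p, hp, CharP.cast_eq_zero F p, dvd_pow_self p hk.ne', fun c h =>
    frobenius_inj F p (by rw [frobenius_def, h, map_one])⟩

/-- Every copy of `SU₂(q)` in `SU₃(q)` is the stabiliser of a unit vector. -/
theorem exists_range_eq {χ : SU 2 F q →* SU 3 F q} (hχ : Function.Injective χ) :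
    ∃ a, hermForm 3 F q a a = 1 ∧ χ.range = MulAction.stabilizer _ a := by
  have := finite_SU (F := F) (q := q) (n := 3)
  obtain ⟨u, v, s, t, hs, ht, hst, hne, gen, -⟩ := exists_gen_SU2 (F := F) (q := q)
  suffices H : ∃ a, hermForm 3 F q a a = 1 ∧ ∀ g, Tv g u ∨ Tv g v → χ g • a = a by
    obtain ⟨a, ha, H⟩ := H
    refine ⟨a, ha, Subgroup.eq_of_le_of_card_ge ?_ ?_⟩
    · rintro _ ⟨x, rfl⟩
      exact (gen ((MulAction.stabilizer _ a).comap χ) H ▸ Subgroup.mem_top x :
        x ∈ (MulAction.stabilizer _ a).comap χ)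
    · rw [card_stab (n := 2) (by omega) ha]
      exact (Nat.card_congr (MonoidHom.ofInjective hχ).toEquiv).le
  obtain ⟨p, -, hp, -, hp'⟩ := exists_char (F := F) (q := q)
  by_cases h2 : (2 : F) = 0
  · have key : ∀ {g w}, Tv g w → ∃ r, Tv (χ g) r := fun h => tv_of_sq h2
      (by rw [← map_mul, ← sq, h.pow_eq_one (p := 2) h2, map_one])
      fun e => h.ne_one (hχ (e.trans (map_one χ).symm))
    obtain ⟨r, hr⟩ := key hs
    obtain ⟨r', hr'⟩ := key ht
    obtain ⟨a, b, hab, h⟩ := exists_plane_basis hr.2.1 (r' := r') fun h0 =>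
      not_commute_of_braid hst hne ((Commute.of_map hχ ((hr'.commute_iff hr).2 h0)).symm)
    obtain ⟨c, hc, hc'⟩ := hab.exists_unit (by simp)
    obtain ⟨c1, c2⟩ := (h c).1 ⟨hc' 0, hc' 1⟩
    have fin : ∀ {g g' w r}, Tv g w → Tv g' w → Tv (χ g') r → hermForm 3 F q c r = 0 →
        χ g • c = c := by
      intro g g' w r h1 h2 h3 h4
      obtain ⟨r', hr'⟩ := key h1
      obtain ⟨l, rfl⟩ := dep_of_orth h3.1 h3.2.1 hr'.2.1
        ((hr'.commute_iff h3).1 (((h1.commute_iff h2).2 h1.2.1).map χ))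
      rw [hr'.smul_eq_iff, herm_smul_right, h4, mul_zero]
    exact ⟨c, hc, fun g hg => hg.elim (fun h => fin h hs hr c1) fun h => fin h ht hr' c2⟩
  · have hm : (-1 : F) * σ (-1) = 1 := by simp
    have hz : ∀ v : Fin 2 → F, dd hm • v = -v := fun v => by
      funext i
      change (diagonal _ *ᵥ v) i = _
      fin_cases i <;> simp [mulVec_diagonal]
    have hz2 : dd hm * dd hm = 1 := SU_ext fun v => by rw [mul_smul, hz, hz, neg_neg, one_smul]
    have hz1 : dd hm ≠ 1 := fun h => h2 (by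
      have := congrFun (hz (ee F 0)) 0
      rw [h, one_smul] at this
      simp at this
      linear_combination this)
    have hzc : ∀ g, Commute g (dd hm) := fun g => SU_ext fun v => by
      rw [mul_smul, mul_smul, hz, hz, smul_neg]
    set z := χ (dd hm) with hzdef
    have z2 : z * z = 1 := by rw [hzdef, ← map_mul, hz2, map_one]
    have zz : ∀ v : Fin 3 → F, z • z • v = v := fun v => by rw [← mul_smul, z2, one_smul]
    obtain ⟨a, ha, hza⟩ : ∃ a, hermForm 3 F q a a = 1 ∧ z • a = a := by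
      obtain ⟨x, hx⟩ : ∃ x : Fin 3 → F, x + z • x ≠ 0 := by
        by_contra h
        push Not at h
        have := SU_det_eq_one (g := z) (M := -1) fun v => by
          rw [neg_mulVec, one_mulVec, eq_neg_iff_add_eq_zero, add_comm, h]
        rw [det_neg, det_one] at this
        norm_num at this
        exact h2 (by linear_combination -this)
      have fx : ∀ x : Fin 3 → F, z • (x + z • x) = x + z • x := fun x => by
        rw [smul_add, zz, add_comm]
      suffices H : ∃ a, hermForm 3 F q a a ≠ 0 ∧ z • a = a by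
        obtain ⟨a, ha, H⟩ := H
        obtain ⟨c, -, hc⟩ := exists_unit_smul ha
        exact ⟨_, hc, by rw [SU_smul_comm, H]⟩
      by_cases h0 : hermForm 3 F q (x + z • x) (x + z • x) = 0
      · obtain ⟨y, hy⟩ := exists_herm_ne_zero (q := q) hx
        have : hermForm 3 F q (y + z • y) (x + z • x) ≠ 0 := by
          rw [herm_add_left, ← fx x, SU_herm, fx x, ← two_mul]
          exact mul_ne_zero h2 (herm_comm_ne hy)
        obtain ⟨k, hk⟩ := exists_add_smul_norm h0 this (map_one σ)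
        exact ⟨_, hk ▸ one_ne_zero, by rw [smul_add, fx, SU_smul_comm, fx]⟩
      · exact ⟨_, h0, fx x⟩
    obtain ⟨m, hm', hm''⟩ := exists_stab (n := 2) (by omega) ha
    obtain ⟨z', hz'⟩ := (hm'' z).1 hza
    have z'2 : z' * z' = 1 := iL_injective (by
      have : iL z' = m⁻¹ * z * m := by rw [hz']; group
      rw [map_mul, this, map_one]
      calc _ = m⁻¹ * (z * z) * m := by group
        _ = 1 := by rw [z2]; group)
    have z'1 : z' ≠ 1 := fun h => hz1 (hχ (by rw [← hzdef, hz', h]; simp))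
    have fixz : ∀ w : Fin 3 → F, z • w = w → w = hermForm 3 F q w a • a := by
      intro w hw
      rw [hz', mul_smul, mul_smul, smul_eq_iff_eq_inv_smul, iL, blk,
        emb_smul (on_ee (Fin.castSucc_injective 2)), SU2_smul_eq_neg h2 z'2 z'1] at hw
      rw [← hm', ← SU_smul_comm, ← inv_smul_eq_iff, ← smul_inv_smul m w, SU_herm, herm_single_right,
        inv_smul_smul]
      generalize m⁻¹ • w = y at hw
      have h0 := congrFun hw 0
      have h1 := congrFun hw 1
      simp [comb, coord, herm_single_right, Fin.sum_univ_two] at h0 h1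
      funext i
      fin_cases i
      · simpa using mul_left_cancel₀ h2 (by linear_combination -h0 : 2 * y 0 = 2 * 0)
      · simpa using mul_left_cancel₀ h2 (by linear_combination -h1 : 2 * y 1 = 2 * 0)
      · simp
    refine ⟨a, ha, fun g hg => ?_⟩
    have h1 := fixz (χ g • a) (by rw [← mul_smul, ← ((hzc g).map χ).eq, mul_smul, hza])
    generalize hermForm 3 F q (χ g • a) a = c at h1
    have h3 : ∀ m : ℕ, χ g ^ m • a = c ^ m • a := fun m => by
      induction m with
      | zero => simp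
      | succ m ih => rw [pow_succ, mul_smul, h1, SU_smul_comm, ih, smul_smul, pow_succ']
    have h4 := h3 p
    rw [← map_pow, hg.elim (·.pow_eq_one hp) (·.pow_eq_one hp), map_one, one_smul] at h4
    have ha0 : a ≠ 0 := by rintro rfl; simp [herm_zero_left] at ha
    rw [h1, hp' c (smul_left_injective F ha0 (h4.symm.trans (one_smul _ _).symm)), one_smul]

theorem orth_of_commute {a b : Fin 3 → F} (ha : hermForm 3 F q a a = 1)
    (hb : hermForm 3 F q b b = 1) {d d' : SU 3 F q} (hd : d • a = a) (hd' : d' • b = b)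
    (o : orderOf d = q + 1) (o' : orderOf d' = q + 1) (hc : Commute d d')
    (h : MulAction.stabilizer (SU 3 F q) a ⊔ MulAction.stabilizer (SU 3 F q) b = ⊤) :
    hermForm 3 F q b a = 0 := by
  obtain ⟨p, hp1, hp, hpq, -⟩ := exists_char (F := F) (q := q)
  have key : ∀ {d : SU 3 F q} {a w : Fin 3 → F}, hermForm 3 F q a a = 1 → orderOf d = q + 1 →
      d • a = a → d • w = w → w = hermForm 3 F q w a • a := by
    intro d a w ha o h1 h2
    by_contra h0
    have := pow_eq_one_of_fix ha (sub_ne_zero.2 h0) (herm_sub_proj_orth ha w) h1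
      (by rw [smul_sub, SU_smul_comm, h1, h2]) hp
    have h3 := Nat.le_of_dvd hp1.pos (o ▸ orderOf_dvd_of_pow_eq_one this)
    have h4 := Nat.le_of_dvd (by have := two_le_q F q; omega) hpq
    omega
  by_contra h0
  have h1 := key hb o' hd' (w := d • b) (by rw [← mul_smul, ← hc.eq, mul_smul, hd'])
  have h2 := SU_herm d b a
  rw [hd, h1, herm_smul_left] at h2
  rw [mul_right_cancel₀ h0 (h2.trans (one_mul _).symm), one_smul] at h1
  have h3 := key ha o hd h1
  obtain ⟨c, hc, hc'⟩ := (on1 ha).exists_unit (by simp)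
  obtain ⟨s, hs⟩ := (on1 ha).witt (on1 hc) (by simp)
  have : s ∈ MulAction.stabilizer (SU 3 F q) a := by
    refine (h.ge.trans (sup_le le_rfl fun g hg => ?_)) (Subgroup.mem_top s)
    rw [MulAction.mem_stabilizer_iff, h3, SU_smul_comm] at hg
    exact smul_right_injective _ h0 hg
  have h4 : c = a := (hs 0).symm.trans this
  have h5 : hermForm 3 F q c a = 0 := hc' 0
  rw [h4, ha] at h5
  exact one_ne_zero h5

/-- Recognition of a standard pair from commuting tori. -/
theorem exists_std_of_tori {A B D D' : Subgroup G} (e : SU 2 F q ≃* A) (e' : SU 2 F q ≃* B)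
    (E : ↥(A ⊔ B) ≃* SU 3 F q) (hD : D ≤ A ∧ IsCyclic D ∧ Nat.card D = q + 1)
    (hD' : D' ≤ B ∧ IsCyclic D' ∧ Nat.card D' = q + 1) (hc : ∀ x ∈ D, ∀ y ∈ D', x * y = y * x) :
    ∃ θ : SU 3 F q →* G, Std θ A B (A ⊔ B) := by
  let θ : SU 3 F q →* G := (A ⊔ B).subtype.comp E.symm.toMonoidHom
  have hθ : Function.Injective θ := Subtype.val_injective.comp E.symm.injective
  have hr : θ.range = A ⊔ B := by
    rw [MonoidHom.range_comp, MonoidHom.range_eq_top.2 E.symm.surjective, ← MonoidHom.range_eq_map,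
      Subgroup.range_subtype]
  have key : ∀ {A D : Subgroup G}, A ≤ θ.range → (SU 2 F q ≃* A) →
      (D ≤ A ∧ IsCyclic D ∧ Nat.card D = q + 1) → ∃ (a : Fin 3 → F) (d : SU 3 F q),
      hermForm 3 F q a a = 1 ∧ (MulAction.stabilizer _ a).map θ = A ∧ d • a = a ∧
        orderOf d = q + 1 ∧ θ d ∈ D := by
    intro A D hA e ⟨h1, h2, h3⟩
    let χ : SU 2 F q →* SU 3 F q := ((MonoidHom.ofInjective hθ).symm.toMonoidHom.comp
      (Subgroup.inclusion hA)).comp e.toMonoidHom
    have hχ : ∀ x, θ (χ x) = e x := fun x => MonoidHom.apply_ofInjective_symm hθ _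
    obtain ⟨a, ha, H⟩ := exists_range_eq (χ := χ) fun x y h => e.injective (Subtype.ext (by
      rw [← hχ, h, hχ]))
    obtain ⟨g, hg⟩ := IsCyclic.exists_ofOrder_eq_natCard (α := D)
    obtain ⟨x, hx⟩ := e.surjective ⟨g, h1 g.2⟩
    have hx' : θ (χ x) = g := by rw [hχ, hx]
    refine ⟨a, χ x, ha, ?_, (H ▸ ⟨x, rfl⟩ : χ x ∈ MulAction.stabilizer _ a), ?_, hx' ▸ g.2⟩
    · rw [← H]
      ext y
      constructor
      · rintro ⟨_, ⟨x, rfl⟩, rfl⟩; rw [hχ]; exact (e x).2
      · intro hy
        obtain ⟨x, hx⟩ := e.surjective ⟨y, hy⟩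
        exact ⟨_, ⟨x, rfl⟩, by rw [hχ, hx]⟩
    · rw [← orderOf_injective θ hθ, hx', Subgroup.orderOf_coe, hg, h3]
  obtain ⟨a, d, ha, a1, a2, a3, a4⟩ := key (hr ▸ le_sup_left) e hD
  obtain ⟨b, d', hb, b1, b2, b3, b4⟩ := key (hr ▸ le_sup_right) e' hD'
  have hba := orth_of_commute ha hb a2 b2 a3 b3 (Commute.of_map hθ (hc _ a4 _ b4))
    (Subgroup.map_injective hθ (by rw [Subgroup.map_sup, a1, b1, ← hr, MonoidHom.range_eq_map]))
  obtain ⟨s, hs⟩ := (on2 (on_single.unit 0) (on_single.unit 2)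
    (on_single.orth 0 2 (by decide))).witt (on2 hb ha hba) (by simp)
  have s0 : s • ee F (0 : Fin 3) = b := hs 0
  have s2 : s • ee F (2 : Fin 3) = a := hs 1
  have cj : ∀ (v : Fin 3 → F), (MulAction.stabilizer (SU 3 F q) v).map (MulAut.conj s).toMonoidHom =
      MulAction.stabilizer (SU 3 F q) (s • v) := fun v =>
    (MulAction.stabilizer_smul_eq_stabilizer_map_conj s v).symm
  refine ⟨θ.comp (MulAut.conj s).toMonoidHom, ?_, ?_, ?_, fun x hx => ?_⟩
  · rw [← a1, ← s2, ← cj, Subgroup.map_map, MonoidHom.range_comp]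
    congr 1; ext; exact mem_range_iL
  · rw [← b1, ← s0, ← cj, Subgroup.map_map, MonoidHom.range_comp]
    congr 1; ext; exact mem_range_iR
  · rw [MonoidHom.range_comp, MonoidHom.range_eq_top.2 (MulAut.conj s).surjective,
      ← MonoidHom.range_eq_map, hr]
  · have : x = 1 := (MulAut.conj s).injective (hθ (hx.trans (by simp)))
    rw [this]; exact one_mem _

end Cfsg.Agent.CT.U
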