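import Mathlib
import Cfsg.Agent.CT.URecog

/-!
Recognition of standard triples in quotients of `SU₄(q)`, `q ≤ 3`.
-/

set_option autoImplicit false
set_option linter.unusedSectionVars false

namespace Cfsg.Agent.CT.U

open Matrix Cfsg Cfsg.Agent.Class.U

variable {F : Type*} [Field F] {q : ℕ} {n k : ℕ} [hU : UF F q] {G : Type*} [Group G]

local notation "σ" => conj F q
local notation "𝐡" => hermForm n F q

theorem exists_tv {u : Fin n → F} (h0 : u ≠ 0) (hu : 𝐡 u u = 0) : ∃ t : SU n F q, Tv t u := by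
  obtain ⟨c, hc0, hc⟩ := exists_trace_zero F q
  obtain ⟨t, ht⟩ := exists_transvection hu hc
  exact ⟨t, h0, hu, c, hc0, ht⟩

theorem Tv.exists_conj (hn : 3 ≤ n) {t t' : SU n F q} {u u' : Fin n → F} (h : Tv t u)
    (h' : Tv t' u') : ∃ s, t' = s * t * s⁻¹ := by
  obtain ⟨u0, hu, a, a0, ha⟩ := h
  obtain ⟨u0', hu', a', a0', ha'⟩ := h'
  have c := ha.cond u0 hu (herm_zero_left _)
  have c' := ha'.cond u0' hu' (herm_zero_left _)
  rw [herm_zero_left, add_zero, ← neg_eq_iff_add_eq_zero] at c c'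
  obtain ⟨l, hl⟩ := Class.U.exists_norm_eq (q := q) (μ := a' / a)
    (by rw [map_div₀, ← c, ← c', neg_div_neg_eq])
  obtain ⟨s, hs⟩ := exists_SU_smul_eq hn u0 (u' := l • u') (smul_ne_zero (by
    rintro rfl; simp [a0, a0', eq_comm] at hl) u0') hu
    (by rw [herm_smul_left, herm_smul_right, hu', mul_zero, mul_zero])
  have := ha.conj s
  rw [hs] at this
  exact ⟨s, ha'.unique (by simpa [hl, a0] using this.of_smul)⟩

section
variable {g : SU n F q →* G} (hg : g.ker ≤ Subgroup.center _)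
include hg

theorem eq_of_map_eq (hn : 2 ≤ n) {s s' : SU n F q} (e : g s = g s') {v : Fin n → F} (hv : v ≠ 0)
    (h : s • v = s' • v) : s = s' :=
  inv_mul_eq_one.1 (eq_one_of_center hn (hg (by simp [e])) hv (by
    rw [mul_smul, ← h, inv_smul_smul]))

theorem Tv.eq_of_map_eq (hn : 3 ≤ n) {t t' : SU n F q} {u u' : Fin n → F} (h : Tv t u)
    (h' : Tv t' u') (e : g t = g t') : t = t' := by
  obtain ⟨v, hv0, hv⟩ := exists_ne_zero_orth (q := q) ![u, u'] (by simp; omega)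
  exact U.eq_of_map_eq hg (by omega) e hv0
    ((h.smul_eq_iff.2 (hv 0)).trans (h'.smul_eq_iff.2 (hv 1)).symm)

theorem Tv.commute_of_map (hn : 3 ≤ n) {t y : SU n F q} {u : Fin n → F} (h : Tv t u)
    (e : Commute (g y) (g t)) : Commute y t :=
  mul_inv_eq_iff_eq_mul.1 ((h.conj y).eq_of_map_eq hg hn h (by simp [e.eq]))

theorem mem_center_of_map (hn : 3 ≤ n) {y : SU n F q} (h : ∀ x, Commute (g y) (g x)) :
    y ∈ Subgroup.center (SU n F q) := by
  refine mem_center_of_fix_lines (by omega) fun u hu => ?_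
  by_cases h0 : u = 0
  · exact ⟨0, by simp [h0]⟩
  obtain ⟨t, ht⟩ := exists_tv h0 hu
  have := ht.conj y
  rw [(ht.commute_of_map hg hn (h t)).eq, mul_inv_cancel_right] at this
  exact ht.exists_smul this

theorem Tv.orth_of_mem {b : Fin k → Fin n → F} (hb : ON q b) (hk : k + 1 < n) {t : SU n F q}
    {u : Fin n → F} (h : Tv t u) (e : g t ∈ (g.comp (U.emb hb)).range) (v : Fin n → F)
    (hv : ∀ i, 𝐡 v (b i) = 0) : 𝐡 v u = 0 := by
  obtain ⟨x, e⟩ := e
  obtain ⟨w, w0, hw⟩ := exists_ne_zero_orth (q := q) (vecCons u b) (by simpa using hk)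
  rw [← h.smul_eq_iff, ← U.eq_of_map_eq hg (by omega) e w0 ((emb_smul_of_orth hb x
    fun i => hw i.succ).trans (h.smul_eq_iff.2 (hw 0)).symm), emb_smul_of_orth hb x hv]

theorem exists_plane (hq : q.Prime) {φ : SU 2 F q →* G} (hφ : Function.Injective φ)
    (H : ∀ t u, Tv t u → ∃ t' u', Tv t' u' ∧ g t' = φ t) :
    ∃ (p : Fin 2 → Fin n → F) (hp : ON q p), φ.range = (g.comp (emb hp)).range ∧
      ∃ r r' s s', Tv s r ∧ Tv s' r' ∧ g s ∈ φ.range ∧ g s' ∈ φ.range ∧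
        ∀ v, (∀ i, 𝐡 v (p i) = 0) ↔ 𝐡 v r = 0 ∧ 𝐡 v r' = 0 := by
  have := finite_SU (F := F) (q := q) (n := 2)
  obtain ⟨u, v, s, t, hs, ht, hst, hne, -, gen⟩ := exists_gen_SU2 (F := F) (q := q)
  obtain ⟨s', r, hr, es⟩ := H s u hs
  obtain ⟨t', r', hr', et⟩ := H t v ht
  obtain ⟨a, b, hab, h⟩ := exists_plane_basis hr.2.1 (r' := r') fun h0 =>
    not_commute_of_braid hst hne (Commute.of_map hφ (by
      rw [← es, ← et]; exact (((hr'.commute_iff hr).2 h0).map g).symm))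
  have h' : ∀ v, (∀ i, 𝐡 v (![a, b] i) = 0) ↔ 𝐡 v r = 0 ∧ 𝐡 v r' = 0 := fun v => by
    rw [← h, Fin.forall_fin_two]; rfl
  have := Finite.of_surjective _ (g.comp (emb hab)).rangeRestrict_surjective
  refine ⟨_, hab, Subgroup.eq_of_le_of_card_ge ?_ ?_, r, r', s', t', hr, hr', ⟨_, es.symm⟩,
    ⟨_, et.symm⟩, h'⟩
  · have key : ∀ {s s' r}, Tv s' r → g s' = φ s → (∀ v, (∀ i, 𝐡 v (![a, b] i) = 0) → 𝐡 v r = 0) →
        s ∈ (g.comp (emb hab)).range.comap φ := fun h e H => by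
      obtain ⟨x, hx⟩ := (mem_range_emb hab).2 fun v hv => h.smul_eq_iff.2 (H v hv)
      exact ⟨x, by rw [MonoidHom.comp_apply, hx, e]⟩
    rintro _ ⟨x, rfl⟩
    exact (gen hq _ (key hr es fun v hv => ((h' v).1 hv).1) (key hr' et fun v hv => ((h' v).1 hv).2)
      ▸ Subgroup.mem_top x : x ∈ (g.comp (emb hab)).range.comap φ)
  · exact (Nat.card_le_card_of_surjective _ (g.comp (emb hab)).rangeRestrict_surjective).trans
      (Nat.card_congr (MonoidHom.ofInjective hφ).toEquiv).le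

omit hg in
theorem ON.eq_comb {b : Fin k → Fin n → F} (hb : ON q b) {x : Fin n → F}
    (h : ∀ v, (∀ i, 𝐡 v (b i) = 0) → 𝐡 v x = 0) : U.comb b (U.coord q b x) = x := by
  rw [eq_comm, ← sub_eq_zero]
  refine eq_zero_of_herm_right (q := q) fun v => ?_
  have hv := hb.coord_sub_comb v
  rw [← sub_add_cancel v (U.comb b (U.coord q b v)), herm_add_left, herm_comb_left,
    hb.coord_sub_comb, herm_zero_right, add_zero, herm_sub_right, herm_comb_right, hv,
    herm_zero_left, h _ (congrFun hv), sub_zero]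

theorem exists_inter (hn : 4 ≤ n) {p p' : Fin 2 → Fin n → F} (hp : ON q p) (hp' : ON q p')
    {r r' : Fin n → F} {s s' : SU n F q} (hs : Tv s r) (hs' : Tv s' r')
    (m : g s ∈ (g.comp (emb hp)).range) (m' : g s' ∈ (g.comp (emb hp)).range)
    (h : ∀ v, (∀ i, 𝐡 v (p i) = 0) ↔ 𝐡 v r = 0 ∧ 𝐡 v r' = 0) {d : G}
    (hd : d ∈ (g.comp (emb hp')).range)
    (h1 : ∀ x ∈ (g.comp (emb hp)).range, d * x * d⁻¹ ∈ (g.comp (emb hp)).range)
    (h2 : ¬ ∀ x ∈ (g.comp (emb hp)).range, d * x * d⁻¹ = x) :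
    ∃ x x', x ≠ 0 ∧ comb p x = comb p' x' := by
  obtain ⟨y, rfl⟩ := hd
  rw [MonoidHom.comp_apply] at h1 h2
  obtain ⟨i, hi⟩ : ∃ i, emb hp' y • p i ≠ p i := by
    by_contra h
    push Not at h
    refine h2 ?_
    rintro _ ⟨x, rfl⟩
    rw [MonoidHom.comp_apply, ← map_inv, ← map_mul, ← map_mul, conj_emb,
      emb_congr _ hp (funext h)]
  have key : ∀ {s r}, Tv s r → g s ∈ (g.comp (emb hp)).range → ∀ v, (∀ i, 𝐡 v (p i) = 0) →
      𝐡 ((emb hp' y)⁻¹ • v) r = 0 := fun hs m v hv => by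
    rw [← SU_herm (emb hp' y), smul_inv_smul]
    exact (hs.conj _).orth_of_mem hg hp (by omega) (by simpa using h1 _ m) v hv
  have e := hp.eq_comb (x := emb hp' y • p i) fun v hv => by
    rw [← SU_herm (emb hp' y)⁻¹, inv_smul_smul]
    exact (h _).2 ⟨key hs m v hv, key hs' m' v hv⟩ i
  have e' : comb p (coord q p (emb hp' y • p i) - Pi.single i 1) = emb hp' y • p i - p i := by
    rw [comb_sub, e, comb_single]
  refine ⟨_, y • coord q p' (p i) - coord q p' (p i), fun h0 => hi ?_, e'.trans ?_⟩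
  · rwa [h0, comb_zero, eq_comm, sub_eq_zero] at e'
  · rw [emb_smul, comb_sub]; abel

end

theorem dep_of_orth2 {x y : Fin 2 → F} (h0 : x ≠ 0) (hx : hermForm 2 F q x x = 0)
    (h : hermForm 2 F q y x = 0) : ∃ l : F, y = l • x := by
  simp only [herm_eq, Fin.sum_univ_two] at hx h
  have key : x 0 = 0 ↔ x 1 = 0 := ⟨fun h => by simpa [h] using hx, fun h => by simpa [h] using hx⟩
  have x0 : x 0 ≠ 0 := fun h => h0 (funext fun i => by fin_cases i; exacts [h, key.1 h])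
  have x1 : σ (x 1) ≠ 0 := conj_ne_zero.2 (mt key.2 x0)
  refine ⟨y 0 / x 0, funext fun i => ?_⟩
  fin_cases i
  · simp [x0]
  · simp only [Fin.mk_one, Pi.smul_apply, smul_eq_mul]
    field_simp
    exact mul_left_cancel₀ x1 (by linear_combination x 0 * h - y 0 * hx)

theorem emb_surjective {b : Fin n → Fin n → F} (hb : ON q b) : Function.Surjective (emb hb) :=
  have := finite_SU (F := F) (q := q) (n := n)
  Finite.surjective_of_injective (emb_injective hb)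

theorem range_emb_comb (g : SU n F q →* G) {b : Fin k → Fin n → F} (hb : ON q b)
    {c : Fin k → Fin k → F} (hc : ON q c) {b' : Fin k → Fin n → F} (hb' : ON q b')
    (h : b' = fun a => comb b (c a)) : (g.comp (emb hb')).range = (g.comp (emb hb)).range := by
  subst h
  ext y
  refine ⟨fun ⟨x, e⟩ => ⟨emb hc x, by rw [← e]; exact congrArg g (emb_emb hb hc x)⟩,
    fun ⟨x, e⟩ => ?_⟩
  obtain ⟨x, rfl⟩ := emb_surjective hc x
  exact ⟨x, by rw [← e]; exact congrArg g (emb_emb hb hc x).symm⟩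

theorem exists_basis4 {p0 p1 p2 : Fin 2 → Fin n → F} (h0 : ON q p0) (h1 : ON q p1) (h2 : ON q p2)
    (o : ∀ i j, 𝐡 (p0 i) (p2 j) = 0) {x0 x1 y1 y2 : Fin 2 → F} (n0 : x0 ≠ 0) (n2 : y2 ≠ 0)
    (e : comb p0 x0 = comb p1 x1) (e' : comb p2 y2 = comb p1 y1) :
    ∃ (b : Fin 4 → Fin n → F) (c0 c1 c2 : Fin 2 → Fin 2 → F), ON q b ∧ ON q c0 ∧ ON q c1 ∧ ON q c2 ∧
      (∀ a, b a.castSucc.castSucc = comb p0 (c0 a)) ∧ (∀ a, b a.succ.castSucc = comb p1 (c1 a)) ∧
      ∀ a, b a.succ.succ = comb p2 (c2 a) := by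
  have oo : ∀ x y, 𝐡 (comb p0 x) (comb p2 y) = 0 := fun x y => by
    simp [comb, herm_add_left, herm_add_right, herm_smul_left, herm_smul_right, o]
  have o1 : hermForm 2 F q x1 y1 = 0 := by rw [← h1.herm_comb, ← e, ← e', oo]
  have m0 : x1 ≠ 0 := by
    rintro rfl; exact n0 (h0.comb_injective (by rw [e, comb_zero, comb_zero]))
  have m2 : y1 ≠ 0 := by
    rintro rfl; exact n2 (h2.comb_injective (by rw [e', comb_zero, comb_zero]))
  obtain ⟨c, -, hc⟩ := exists_unit_smul (q := q) (v := x1) fun h => by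
    obtain ⟨l, rfl⟩ := dep_of_orth2 m0 h (herm_comm_zero o1)
    refine n2 (eq_zero_of_herm_right (q := q) fun v => ?_)
    rw [← h2.herm_comb, e', comb_smul, ← e, herm_smul_right, herm_comm_zero (oo _ _), mul_zero]
  obtain ⟨c', -, hc'⟩ := exists_unit_smul (q := q) (v := y1) fun h => by
    obtain ⟨l, rfl⟩ := dep_of_orth2 m2 h o1
    refine n0 (eq_zero_of_herm_right (q := q) fun v => ?_)
    rw [← h0.herm_comb, e, comb_smul, ← e', herm_smul_right, oo, mul_zero]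
  have f : comb p0 (c • x0) = comb p1 (c • x1) := by rw [comb_smul, comb_smul, e]
  have f' : comb p2 (c' • y2) = comb p1 (c' • y1) := by rw [comb_smul, comb_smul, e']
  have u0 : hermForm 2 F q (c • x0) (c • x0) = 1 := by rw [← h0.herm_comb, f, h1.herm_comb, hc]
  have u2 : hermForm 2 F q (c' • y2) (c' • y2) = 1 := by rw [← h2.herm_comb, f', h1.herm_comb, hc']
  obtain ⟨z0, z1, z2⟩ := (on1 u0).exists_unit (by simp)
  obtain ⟨w0, w1, w2⟩ := (on1 u2).exists_unit (by simp)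
  refine ⟨![comb p0 z0, comb p0 (c • x0), comb p2 (c' • y2), comb p2 w0], ![z0, c • x0],
    ![c • x1, c' • y1], ![c' • y2, w0], on4 (by rw [h0.herm_comb, z1]) (by rw [h0.herm_comb, u0])
      (by rw [h2.herm_comb, u2]) (by rw [h2.herm_comb, w1]) (by rw [h0.herm_comb]; exact z2 0)
      (oo _ _) (oo _ _) (oo _ _) (oo _ _) (by rw [h2.herm_comb]; exact herm_comm_zero (w2 0)),
    on2 z1 u0 (z2 0), on2 hc hc' (by rw [herm_smul_left, herm_smul_right, o1]; ring),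
    on2 u2 w1 (herm_comm_zero (w2 0)), fun a => ?_, fun a => ?_, fun a => ?_⟩ <;> fin_cases a
  exacts [rfl, rfl, f, f', rfl, rfl]

theorem dd_comm {a a' : F} (ha : a * σ a = 1) (ha' : a' * σ a' = 1) : Commute (dd ha) (dd ha') :=
  Subtype.ext (Subtype.ext (by
    change diagonal _ * diagonal _ = diagonal _ * diagonal _
    simp only [diagonal_mul_diagonal, mul_comm]))

theorem eq_refl_of_norm (hq : q = 2 ∨ q = 3) {τ : F ≃+* F} (h : ∀ a : F, a * σ a = 1 → τ a = a) :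
    τ = RingEquiv.refl F := by
  have h1 : ∀ x : F, σ x = x → τ x = x := fun x hx => by
    by_cases h0 : x = 0
    · simp [h0]
    refine h x ?_
    rw [hx]
    rw [conj_eq_self_iff h0] at hx
    rcases hq with rfl | rfl
    · rw [show x = 1 by simpa using hx, one_mul]
    · rw [← sq]; exact hx
  obtain ⟨a, ha, ha'⟩ := exists_norm_one_sq_ne (F := F) (q := q)
  have h2 : a - σ a ≠ 0 := fun h => ha' (by linear_combination ha + a * h)
  have h3 : σ a - a ≠ 0 := fun h => h2 (by linear_combination -h)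
  ext z
  have e1 := h1 ((z - σ z) / (a - σ a)) (by
    rw [map_div₀, map_sub, map_sub, conj_conj, conj_conj]; field_simp; ring)
  have e2 := h1 (z - (z - σ z) / (a - σ a) * a) (by
    rw [map_sub, map_mul, map_div₀, map_sub, map_sub, conj_conj, conj_conj]; field_simp; ring)
  rw [map_sub, map_mul, e1, h a ha] at e2
  exact sub_left_injective e2

theorem exists_match_id (hq : q = 2 ∨ q = 3) {φ φ' : SU 2 F q →* G} (hφ : Function.Injective φ)
    (hφ' : Function.Injective φ') (h : φ.range = φ'.range)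
    (d : ∀ a : F, a * σ a = 1 → G) (hd : ∀ a ha x, d a ha * φ x = φ (δ ha x) * d a ha)
    (hd' : ∀ a ha x, d a ha * φ' x = φ' (δ ha x) * d a ha)
    (hc : ∀ a ha a' ha', Commute (d a ha) (d a' ha')) :
    ∃ (c : F) (hc : c * σ c = 1), ∀ x, φ x = φ' (δ hc x) := by
  obtain ⟨c, hc, τ, H⟩ := exists_match hφ hφ' h d d hd hd' hc
  obtain rfl : τ = RingEquiv.refl F := eq_refl_of_norm hq fun a ha => by
    have := hd a ha wSU
    rw [H, H, hd', mul_left_inj] at this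
    have := congrArg (fun y : SU 2 F q => y.1.1 1 0) (hφ' this)
    have w1 : (wSU : SU 2 F q).1.1 1 0 = -1 := rfl
    simpa [δ, dHom_apply, w1, ne_zero_of_norm hc, mul_comm, eq_comm] using this
  exact ⟨c, hc, H⟩

theorem δ_ne {a : F} (ha : a * σ a = 1) (h : a ≠ 1) : δ ha wSU ≠ wSU := fun e => h (by
  have w1 : (wSU : SU 2 F q).1.1 1 0 = -1 := rfl
  simpa [δ, dHom_apply, w1] using congrArg (fun y : SU 2 F q => y.1.1 1 0) e)

theorem ker_comp_le {g : SU n F q →* G} (hg : g.ker ≤ Subgroup.center _) {f : SU n F q →* SU n F q}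
    (hf : Function.Injective f) : (g.comp f).ker ≤ Subgroup.center _ :=
  fun _ hx => Subgroup.mem_center_iff.2 fun y => hf (by
    rw [map_mul, map_mul]; exact Subgroup.mem_center_iff.1 (hg hx) _)

theorem inj_iL {g : SU (n + 2) F q →* G} (hg : g.ker ≤ Subgroup.center _) :
    Function.Injective (g.comp iL) :=
  (injective_iff_map_eq_one _).2 fun x hx => iL_injective (by
    rw [map_one]; exact eq_one_of_center (by omega) (hg hx) (ee_ne_zero _) (iL_smul_last x))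

theorem inj_iR {g : SU (n + 2) F q →* G} (hg : g.ker ≤ Subgroup.center _) :
    Function.Injective (g.comp iR) :=
  (injective_iff_map_eq_one _).2 fun x hx => iR_injective (by
    rw [map_one]; exact eq_one_of_center (by omega) (hg hx) (ee_ne_zero _) (iR_smul_zero x))

section
variable {θ₀ θ₁ : SU 3 F q →* G} {A B C V W : Subgroup G} (h₀ : Std θ₀ A B V) (h₁ : Std θ₁ B C W)
  (coh : ∀ x, θ₀ (iR x) = θ₁ (iL x)) (hc : ∀ x ∈ A, ∀ y ∈ C, x * y = y * x)
  {g : SU 4 F q →* G} (hg : g.ker ≤ Subgroup.center _)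
include h₀ h₁ coh hc hg

theorem exists_std4 (hq : q.Prime) (T₀ : ∀ t u, Tv t u → ∃ t' u', Tv t' u' ∧ g t' = θ₀ t)
    (T₁ : ∀ t u, Tv t u → ∃ t' u', Tv t' u' ∧ g t' = θ₁ t) :
    ∃ θ : SU 4 F q →* G, θ.range = g.range ∧ θ.ker ≤ Subgroup.center _ ∧
      ((θ.comp iL).comp iL).range = A ∧ ((θ.comp iL).comp iR).range = B ∧
      ((θ.comp iR).comp iR).range = C := by
  obtain ⟨p0, h0, e0, r0, r0', s0, s0', t0, t0', m0, m0', H0⟩ := exists_plane hg hq h₀.injL
    fun t u h => T₀ _ _ (h.emb (on_ee (Fin.castSucc_injective 2)))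
  obtain ⟨p1, h1, e1, -⟩ := exists_plane hg hq h₀.injR
    fun t u h => T₀ _ _ (h.emb (on_ee (Fin.succ_injective 2)))
  obtain ⟨p2, h2, e2, r2, r2', s2, s2', t2, t2', m2, m2', H2⟩ := exists_plane hg hq h₁.injR
    fun t u h => T₁ _ _ (h.emb (on_ee (Fin.succ_injective 2)))
  have o : ∀ {s s' r r'}, Tv s r → Tv s' r' → g s ∈ (θ₀.comp iL).range → g s' ∈ (θ₁.comp iR).range →
      hermForm 4 F q r r' = 0 := fun h h' m m' => (h.commute_iff h').1 (h'.commute_of_map hg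
        (by omega) (hc _ (h₀.left ▸ m) _ (h₁.right ▸ m')))
  obtain ⟨a, ha, ha1⟩ := exists_norm_one_ne_one F q
  obtain ⟨x0, x1, n0, f0⟩ := exists_inter hg le_rfl h0 h1 t0 t0' (e0 ▸ m0) (e0 ▸ m0') H0
    (d := θ₀ (iR (dd ha))) (e1 ▸ ⟨_, rfl⟩) (by
      rw [← e0]; rintro _ ⟨x, rfl⟩
      exact ⟨δ ha x, by simp only [MonoidHom.comp_apply, ← map_mul θ₀, iR_dd_mul]; simp⟩) (by
      rw [← e0]
      refine fun h => δ_ne ha ha1 (h₀.injL ?_)
      rw [← h _ ⟨wSU, rfl⟩]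
      simp only [MonoidHom.comp_apply, ← map_mul θ₀, iR_dd_mul]; simp)
  obtain ⟨y2, y1, n2, f2⟩ := exists_inter hg le_rfl h2 h1 t2 t2' (e2 ▸ m2) (e2 ▸ m2') H2
    (d := θ₁ (iL (dd ha))) (e1 ▸ ⟨_, coh _⟩) (by
      rw [← e2]; rintro _ ⟨x, rfl⟩
      exact ⟨δ ha x, by simp only [MonoidHom.comp_apply, ← map_mul θ₁, iL_dd_mul]; simp⟩) (by
      rw [← e2]
      refine fun h => δ_ne ha ha1 (h₁.injR ?_)
      rw [← h _ ⟨wSU, rfl⟩]
      simp only [MonoidHom.comp_apply, ← map_mul θ₁, iL_dd_mul]; simp)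
  obtain ⟨b, c0, c1, c2, hb, k0, k1, k2, b0, b1, b2⟩ := exists_basis4 h0 h1 h2 (fun i =>
    (H2 _).2 ⟨herm_comm_zero ((H0 _).2 ⟨herm_comm_zero (o t0 t2 m0 m2),
      herm_comm_zero (o t0' t2 m0' m2)⟩ i), herm_comm_zero ((H0 _).2 ⟨herm_comm_zero
        (o t0 t2' m0 m2'), herm_comm_zero (o t0' t2' m0' m2')⟩ i)⟩) n0 n2 f0 f2
  have l := Fin.castSucc_injective
  have r := Fin.succ_injective
  refine ⟨g.comp (emb hb), by rw [MonoidHom.range_comp, MonoidHom.range_eq_top.2 (emb_surjective hb),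
    ← MonoidHom.range_eq_map], ker_comp_le hg (emb_injective hb), ?_, ?_, ?_⟩
  · rw [← h₀.left, e0, ← range_emb_comb g h0 k0 ((hb.comp (l 3)).comp (l 2)) (funext b0)]
    congr 1; ext x; exact congrArg g ((emb_blk hb _ _).trans (emb_blk _ _ _))
  · rw [← h₀.right, e1, ← range_emb_comb g h1 k1 ((hb.comp (l 3)).comp (r 2)) (funext b1)]
    congr 1; ext x; exact congrArg g ((emb_blk hb _ _).trans (emb_blk _ _ _))
  · rw [← h₁.right, e2, ← range_emb_comb g h2 k2 ((hb.comp (r 3)).comp (r 2)) (funext b2)]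
    congr 1; ext x; exact congrArg g ((emb_blk hb _ _).trans (emb_blk _ _ _))

theorem exists_four (hq : q = 2 ∨ q = 3) (T₀ : ∀ t u, Tv t u → ∃ t' u', Tv t' u' ∧ g t' = θ₀ t)
    (T₁ : ∀ t u, Tv t u → ∃ t' u', Tv t' u' ∧ g t' = θ₁ t) :
    ∃ θ : SU 4 F q →* G, θ.range = g.range ∧ θ.ker ≤ Subgroup.center _ ∧
      (∀ x, θ (iL (iL x)) = θ₀ (iL x)) ∧ (∀ x, θ (iL (iR x)) = θ₀ (iR x)) ∧
      ∀ x, θ (iR (iR x)) = θ₁ (iR x) := by
  obtain ⟨θ, r, k, a, b, c⟩ := exists_std4 h₀ h₁ coh hc hg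
    (hq.elim (· ▸ Nat.prime_two) (· ▸ Nat.prime_three)) T₀ T₁
  have n4 : ∀ {a b c d : F}, a * σ a = 1 → b * σ b = 1 → c * σ c = 1 → d * σ d = 1 →
      ∀ i, ![a, b, c, d] i * σ (![a, b, c, d] i) = 1 := fun ha hb hc hd i => by
    fin_cases i; exacts [ha, hb, hc, hd]
  obtain ⟨m, hm, τ, H⟩ := exists_match (φ' := (θ.comp iL).comp iR) h₀.injR
    ((inj_iL k).comp iR_injective) (h₀.right.trans b.symm)
    (fun a ha => θ₀ (iL (dd ha))) (fun a ha => θ (iR (iR (dd ha))))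
    (fun a ha x => by simp only [MonoidHom.comp_apply, ← map_mul θ₀, iL_dd_mul])
    (fun a ha x => by simp only [MonoidHom.comp_apply, iL_iR, ← map_mul, iR_dd_mul])
    fun a ha a' ha' => hc _ (h₀.memL _) _ (c ▸ ⟨_, rfl⟩)
  obtain ⟨θ', r', k', a', b', c'⟩ : ∃ θ' : SU 4 F q →* G, θ'.range = g.range ∧
      θ'.ker ≤ Subgroup.center _ ∧ ((θ'.comp iL).comp iL).range = A ∧
      (∀ x, θ' (iL (iR x)) = θ₀ (iR x)) ∧ ((θ'.comp iR).comp iR).range = C := by
    have hn := n4 norm_one norm_one hm norm_one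
    refine ⟨θ.comp (dHom _ hn τ), (range_comp_dHom _ _ _ _).trans r,
      ker_comp_le k (dHom_injective _ _ _), ?_, fun x => ?_, ?_⟩
    · rw [← a, ← range_comp_dHom ((θ.comp iL).comp iL)
        ((_ ∘ Fin.castSucc) ∘ Fin.castSucc) (fun _ => hn _) τ]
      congr 1; ext x; simp only [MonoidHom.comp_apply, dHom_iL]; rfl
    · rw [MonoidHom.comp_apply, dHom_iL, dHom_iR]
      refine (congrArg θ (congrArg iL (congrArg iR (dHom_congr _ _ (fun i j => ?_) _ _)))).trans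
        (H x).symm
      fin_cases i <;> fin_cases j <;> simp
    · rw [← c, ← range_comp_dHom ((θ.comp iR).comp iR)
        ((_ ∘ Fin.succ) ∘ Fin.succ) (fun _ => hn _) τ]
      congr 1; ext x; simp only [MonoidHom.comp_apply, dHom_iR]; rfl
  obtain ⟨c0, hc0, H0⟩ := exists_match_id hq (φ' := (θ'.comp iL).comp iL) h₀.injL
    ((inj_iL k').comp iL_injective) (h₀.left.trans a'.symm) (fun a ha => θ₀ (iR (dd ha)))
    (fun a ha x => by simp only [MonoidHom.comp_apply, ← map_mul θ₀, iR_dd_mul])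
    (fun a ha x => by simp only [MonoidHom.comp_apply, ← b', ← map_mul, iR_dd_mul])
    fun a ha a' ha' => ((dd_comm ha ha').map iR).map θ₀
  obtain ⟨c2, hc2, H2⟩ := exists_match_id hq (φ' := (θ'.comp iR).comp iR) h₁.injR
    ((inj_iR k').comp iR_injective) (h₁.right.trans c'.symm) (fun a ha => θ₁ (iL (dd ha)))
    (fun a ha x => by simp only [MonoidHom.comp_apply, ← map_mul θ₁, iL_dd_mul])
    (fun a ha x => by simp only [MonoidHom.comp_apply, ← coh, ← b', iL_iR, ← map_mul, iL_dd_mul])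
    fun a ha a' ha' => ((dd_comm ha ha').map iL).map θ₁
  refine ⟨θ'.comp (dHom _ (n4 (norm_conj hc0) norm_one norm_one hc2) (RingEquiv.refl F)),
    (range_comp_dHom _ _ _ _).trans r', ker_comp_le k' (dHom_injective _ _ _), fun x => ?_,
    fun x => ?_, fun x => ?_⟩
  · rw [MonoidHom.comp_apply, dHom_iL, dHom_iL]
    refine (congrArg θ' (congrArg iL (congrArg iL (dHom_congr _ _ (fun i j => ?_) _ _)))).trans
      (H0 x).symm
    fin_cases i <;> fin_cases j <;> simp [hc0, conj_conj, mul_comm]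
  · rw [MonoidHom.comp_apply, dHom_iL, dHom_iR, dHom_const, b']
    intro i j; fin_cases i <;> fin_cases j <;> rfl
  · rw [MonoidHom.comp_apply, dHom_iR, dHom_iR]
    refine (congrArg θ' (congrArg iR (congrArg iR (dHom_congr _ _ (fun i j => ?_) _ _)))).trans
      (H2 x).symm
    fin_cases i <;> fin_cases j <;> simp

end

theorem Weak.exists_hom4 {d : ℕ} {U V : ℕ → Subgroup G} (W : Weak F q d U V) (hd : 4 ≤ d)
    (comm : ∀ a b c, c ≤ d → ∀ x ∈ KK U V a b, ∀ y ∈ KK U V b c, Commute x y)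
    (H : ∀ i, i + 4 ≤ d → ∀ θ₀ θ₁ : SU 3 F q →* G, Std θ₀ (U i) (U (i + 1)) (V i) →
      Std θ₁ (U (i + 1)) (U (i + 2)) (V (i + 1)) → (∀ x, θ₀ (iR x) = θ₁ (iL x)) →
      ∃ θ : SU 4 F q →* G, θ.range = V i ⊔ V (i + 1) ∧ (∀ x, θ (iL x) = θ₀ x) ∧
        ∀ x, θ (iR x) = θ₁ x) : ∃ Φ : SU d F q →* G, KK U V 0 d ≤ Φ.range := by
  obtain ⟨ψ, h1, h2⟩ := W.exists_coherent
  have : ∀ i, ∃ θ : SU 4 F q →* G, i + 4 ≤ d → θ.range = V i ⊔ V (i + 1) ∧
      (∀ x, θ (iL x) = ψ i x) ∧ ∀ x, θ (iR x) = ψ (i + 1) x := fun i => by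
    by_cases hi : i + 4 ≤ d
    · obtain ⟨θ, h⟩ := H i hi _ _ (h1 i (by omega)) (h1 (i + 1) hi) (h2 i hi)
      exact ⟨θ, fun _ => h⟩
    · exact ⟨1, fun h => (hi h).elim⟩
  choose θ hθ using this
  refine Sys.exists_hom (k := 3) (ψ := θ) comm KK_mono KK_gen (by omega) (Or.inl le_rfl) hd
    ⟨fun i hi x => by rw [(hθ i (by omega)).2.2, (hθ (i + 1) hi).2.1],
      fun i hi a b g hab hb hg => ?_, fun i hi => ?_⟩
  · by_cases b3 : b ≤ 3
    · obtain ⟨x, rfl⟩ := mem_range_iL.2 (hg 3 (Or.inr b3))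
      rw [(hθ i hi).2.1]
      exact (h1 i (by omega)).supp hab b3 hg.of_iL
    obtain rfl : b = 4 := by omega
    rcases a with _ | a
    · exact sup_le (V_le_KK le_rfl (by omega)) (V_le_KK (by omega) (by omega))
        ((hθ i hi).1.le ⟨g, rfl⟩)
    · obtain ⟨x, rfl⟩ := mem_range_iR.2 (hg 0 (Or.inl a.succ_pos))
      rw [(hθ i hi).2.2, show i + (a + 1) = i + 1 + a by omega]
      exact (h1 (i + 1) hi).supp (b := 3) (by omega) le_rfl (Supp.of_iR hg)
  · rw [(hθ i hi).1]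
    refine (KK_gen _ _ le_rfl).trans (sup_le_sup ?_ ?_)
    · exact (h1 i (by omega)).KK_le.trans (h1 i (by omega)).range.le
    · exact (h1 (i + 1) hi).KK_le.trans (h1 (i + 1) hi).range.le

theorem ker_le_center {θ : SU 3 F q →* G} {A B V : Subgroup G} (h : Std θ A B V)
    {g : SU 4 F q →* G} (hg : V ≤ g.range) : g.ker ≤ Subgroup.center _ :=
  (le_center_or_eq_top (by omega) (by omega) g.ker).resolve_right fun e =>
    center_ne_top (F := F) (q := q) (n := 3) (by omega) (eq_top_iff.2 fun x _ => h.ker (by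
      obtain ⟨y, hy⟩ := hg (h.mem x)
      exact hy.symm.trans (e ▸ Subgroup.mem_top y : y ∈ g.ker)))

end Cfsg.Agent.CT.U
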