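import Mathlib
import Cfsg.Agent.CT.UFour

/-!
Phan's theorem for `q = 3`.
-/

set_option autoImplicit false
set_option linter.unusedSectionVars false

namespace Cfsg.Agent.CT.U

open Matrix Cfsg Cfsg.Agent.Class.U

variable {F : Type*} [Field F] {q : ℕ} {n k : ℕ} [hU : UF F q] {G : Type*} [Group G]

local notation "σ" => conj F q
local notation "𝐡" => hermForm n F q

theorem SU2_tv {d : SU 2 F q} {u : Fin 2 → F} (hu : u ≠ 0) (h : d • u = u) (h1 : d ≠ 1) :
    Tv d u := by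
  refine tv_of_in (fun x => ?_) h1
  have hd := d.1.2
  rw [det_fin_two] at hd
  change d.1.1 0 0 * d.1.1 1 1 - d.1.1 0 1 * d.1.1 1 0 = 1 at hd
  have h0 := congrFun h 0
  have h1 := congrFun h 1
  simp only [SU_smul_def, mulVec, dotProduct, Fin.sum_univ_two] at h0 h1
  have key : ((d • x) 0 - x 0) * u 1 = ((d • x) 1 - x 1) * u 0 := by
    simp only [SU_smul_def, mulVec, dotProduct, Fin.sum_univ_two]
    linear_combination (x 0 * u 1 - x 1 * u 0) * hd + (d.1.1 1 0 * x 0 + d.1.1 1 1 * x 1) * h0 -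
      (d.1.1 0 0 * x 0 + d.1.1 0 1 * x 1) * h1
  by_cases h2 : u 0 = 0
  · have h3 : u 1 ≠ 0 := fun h3 => hu (by funext i; fin_cases i; exacts [h2, h3])
    refine ⟨((d • x) 1 - x 1) / u 1, funext fun i => ?_⟩
    fin_cases i
    · have : (d • x) 0 - x 0 = 0 := by simpa [h2, h3] using key
      simpa [h2, sub_eq_zero] using this
    · simp [h3]
  · refine ⟨((d • x) 0 - x 0) / u 0, funext fun i => ?_⟩
    fin_cases i
    · simp [h2]
    · simp only [Fin.mk_one, Pi.add_apply, Pi.smul_apply, smul_eq_mul]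
      field_simp; linear_combination -key

theorem center_pow (hn : 2 ≤ n) {z : SU n F q} (hz : z ∈ Subgroup.center (SU n F q)) :
    z ^ Nat.gcd n (q + 1) = 1 := by
  rw [← card_center (F := F) hn]
  exact congrArg Subtype.val (pow_card_eq_one' (x := (⟨z, hz⟩ : Subgroup.center (SU n F q))))

theorem exists_fix3 (h3 : (3 : F) = 0) {g : SU n F q} (hg : g ^ 3 = 1) {P : (Fin n → F) → Prop}
    (hP : ∀ v, P v → P (g • v - v)) {x : Fin n → F} (h0 : x ≠ 0) (hx : P x) :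
    ∃ v, v ≠ 0 ∧ P v ∧ g • v = v := by
  by_contra h
  push Not at h
  have h1 := sub_ne_zero.2 (h _ h0 hx)
  have h2 := sub_ne_zero.2 (h _ h1 (hP _ hx))
  refine h _ h2 (hP _ (hP _ hx)) ?_
  have : g • g • g • x = x := by rw [← mul_smul, ← mul_smul, ← pow_three', hg, one_smul]
  simp only [smul_sub, this]
  generalize g • g • x = z
  generalize g • x = y
  linear_combination (norm := module) h3 • (y - z)

theorem ON.neg_ext (h2 : (2 : F) ≠ 0) {z : SU n F q} (hz : z * z = 1) {p : Fin k → Fin n → F}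
    (hp : ON q p) (h : ∀ i, z • p i = -p i) : (∀ v, (∀ i, 𝐡 v (p i) = 0) → z • v = v) ∨
      ∃ x, ON q (vecCons x p) ∧ ∀ i, z • vecCons x p i = -vecCons x p i := by
  have zz : ∀ v : Fin n → F, z • z • v = v := fun v => by rw [← mul_smul, hz, one_smul]
  have k1 : ∀ v : Fin n → F, z • (v - z • v) = -(v - z • v) := fun v => by
    rw [smul_sub, zz, neg_sub]
  have k2 : ∀ v : Fin n → F, (∀ i, 𝐡 v (p i) = 0) → ∀ i, 𝐡 (v - z • v) (p i) = 0 := fun v hv i => by
    rw [herm_sub_left, ← SU_herm z (z • v), zz, h, herm_neg_right, hv, neg_zero, sub_zero]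
  refine or_iff_not_imp_left.2 fun H => ?_
  push Not at H
  obtain ⟨v, hv, hv'⟩ := H
  suffices H : ∃ x, 𝐡 x x ≠ 0 ∧ (∀ i, 𝐡 x (p i) = 0) ∧ z • x = -x by
    obtain ⟨x, x1, x2, x3⟩ := H
    obtain ⟨c, -, hc⟩ := exists_unit_smul x1
    exact ⟨c • x, on_cons.2 ⟨hc, fun i => by rw [herm_smul_left, x2, mul_zero], hp⟩,
      fun i => Fin.cases (by simp [SU_smul_comm, x3]) h i⟩
  by_cases h0 : 𝐡 (v - z • v) (v - z • v) = 0
  swap
  · exact ⟨_, h0, k2 v hv, k1 v⟩
  obtain ⟨y, y1, -, y2⟩ := hp.exists_partner (sub_ne_zero.2 hv'.symm) h0 (k2 v hv) one_ne_zero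
    (map_zero σ)
  obtain ⟨c, hc⟩ := exists_add_smul_norm h0 (w := y - z • y) (by
    rwa [herm_sub_left, ← SU_herm z (z • y), zz, k1, herm_neg_right, y1, sub_neg_eq_add,
      one_add_one_eq_two]) (map_one σ)
  exact ⟨_, hc ▸ one_ne_zero, fun i => by rw [herm_add_left, herm_smul_left, k2 y y2, k2 v hv]; ring,
    by rw [smul_add, SU_smul_comm, k1, k1, smul_neg, neg_add]⟩

theorem ON.neg_pow {z : SU n F q} {p : Fin k → Fin n → F} (hp : ON q p) (h : ∀ i, z • p i = -p i)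
    (h' : ∀ v, (∀ i, 𝐡 v (p i) = 0) → z • v = v) : (-1 : F) ^ k = 1 := by
  have := SU_det_eq_one (g := z) (M := embMat q p (-1)) fun v => by
    rw [embMat_mulVec, ← h' _ (congrFun (hp.coord_sub_comb v)), ← sub_eq_iff_eq_add', ← smul_sub,
      sub_sub_cancel, smul_comb]
    simp [U.comb, h, neg_mulVec]
  simpa [hp.det_embMat, det_neg] using this

theorem exists_neg_plane (h2 : (2 : F) ≠ 0) {z : SU 4 F q} (hz : z * z = 1)
    (hc : z ∉ Subgroup.center (SU 4 F q)) : ∃ p : Fin 2 → Fin 4 → F, ON q p ∧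
      (∀ i, z • p i = -p i) ∧ ∀ v, (∀ i, hermForm 4 F q v (p i) = 0) → z • v = v := by
  obtain h | ⟨a, ha, ha'⟩ := on_nil.neg_ext h2 hz fun i => i.elim0
  · exact (hc (mem_center_of_scalar (e := 1) fun x => by rw [h x fun i => i.elim0, one_smul])).elim
  obtain h | ⟨b, hb, hb'⟩ := ha.neg_ext h2 hz ha'
  · exact (h2 (by linear_combination -ha.neg_pow ha' h)).elim
  obtain h | ⟨c, hc, hc'⟩ := hb.neg_ext h2 hz hb'
  · exact ⟨_, hb, hb', h⟩
  obtain h | ⟨d, hd, hd'⟩ := hc.neg_ext h2 hz hc'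
  · exact (h2 (by linear_combination -hc.neg_pow hc' h)).elim
  refine (‹z ∉ _› (mem_center_of_scalar (e := -1) fun x => ?_)).elim
  rw [← hd.comb_coord x, smul_comb, funext hd']
  simp only [comb, smul_neg, Finset.sum_neg_distrib, neg_smul, one_smul]

omit hU in
theorem dep_or_span {x : Fin 2 → F} (h0 : x ≠ 0) (y : Fin 2 → F) :
    (∃ l : F, y = l • x) ∨ ∀ w, ∃ a b : F, w = a • x + b • y := by
  by_cases h : x 0 * y 1 - x 1 * y 0 = 0
  · by_cases h1 : x 0 = 0
    · have h2 : x 1 ≠ 0 := fun h2 => h0 (funext fun i => by fin_cases i; exacts [h1, h2])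
      refine Or.inl ⟨y 1 / x 1, funext fun i => ?_⟩
      fin_cases i
      · simpa [h1, h2] using h
      · simp [h2]
    · refine Or.inl ⟨y 0 / x 0, funext fun i => ?_⟩
      fin_cases i
      · simp [h1]
      · simp only [Fin.mk_one, Pi.smul_apply, smul_eq_mul]
        field_simp; linear_combination h
  · refine Or.inr fun w => ⟨(w 0 * y 1 - w 1 * y 0) / (x 0 * y 1 - x 1 * y 0),
      (x 0 * w 1 - x 1 * w 0) / (x 0 * y 1 - x 1 * y 0), funext fun i => ?_⟩
    fin_cases i <;> simp only [Fin.mk_one, Fin.zero_eta, Pi.add_apply, Pi.smul_apply, smul_eq_mul,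
      div_mul_eq_mul_div, ← add_div, eq_div_iff h] <;> ring

theorem braid3 {H : Type*} [Group H] {a b : H} (ha : a ^ 3 = 1) (hb : b ^ 3 = 1)
    (h : a * b * a = b * a * b) : (a * b * a) ^ 2 = (b⁻¹ * a) ^ 2 := by
  have h1 : a⁻¹ = a * a := by rw [inv_eq_iff_mul_eq_one, ← pow_three, ha]
  have h2 : b⁻¹ = b * b := by rw [inv_eq_iff_mul_eq_one, ← pow_three, hb]
  calc (a * b * a) ^ 2 = a * b * (a * a) * b * a := by simp only [sq, mul_assoc]
    _ = b⁻¹ * (b * a * b) * a⁻¹ * b * a := by rw [← h1]; group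
    _ = b⁻¹ * a * (b * b) * a := by rw [← h]; simp only [mul_assoc, mul_inv_cancel_left]
    _ = _ := by rw [← h2]; simp only [sq, mul_assoc]

theorem braid3_sq {H : Type*} [Group H] {a b : H} (ha : a ^ 3 = 1) (hb : b ^ 3 = 1)
    (h : a * b * a = b * a * b) : (b⁻¹ * a) ^ 2 * (b⁻¹ * a) ^ 2 = 1 := by
  nth_rw 2 [← braid3 ha hb h]
  rw [h, braid3 hb ha h.symm]
  simp only [sq, mul_assoc, mul_inv_cancel_left, inv_mul_cancel_left, inv_mul_cancel]

theorem tv_of_commute (h3 : (3 : F) = 0) {a b c : SU 4 F q} (ha : a ^ 3 = 1) (hb : b ^ 3 = 1)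
    (hc : c ^ 3 = 1) (h : a * b * a = b * a * b) (ca : Commute c a) (cb : Commute c b)
    (hz : (b⁻¹ * a) ^ 2 ∉ Subgroup.center (SU 4 F q)) (c1 : c ≠ 1) : ∃ u, Tv c u := by
  have h2 : (2 : F) ≠ 0 := fun h => one_ne_zero (by linear_combination h3 - h : (1 : F) = 0)
  have za : Commute ((b⁻¹ * a) ^ 2) a := by
    rw [← braid3 ha hb h]
    have e1 : a * b * a * a = b * (a * b * a) := (congrArg (· * a) h).trans (by group)
    have e2 : a * b * a * b = a * (a * b * a) := by rw [h]; rw [← h]; nth_rw 2 [h]; group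
    rw [Commute, SemiconjBy, sq, mul_assoc, e1, ← mul_assoc, e2, mul_assoc]
  have zb : Commute ((b⁻¹ * a) ^ 2) b := by
    have : Commute ((b⁻¹ * a) ^ 2) (b⁻¹ * a) := Commute.pow_self _ _
    simpa using (this.mul_right za.inv_right).inv_right
  have zc : Commute ((b⁻¹ * a) ^ 2) c := ((cb.inv_right.mul_right ca).pow_right 2).symm
  obtain ⟨p, hp, h1, h1'⟩ := exists_neg_plane h2 (braid3_sq ha hb h) hz
  have fz : ∀ v : Fin 4 → F, a • v = v → b • v = v → (b⁻¹ * a) ^ 2 • v = v := fun v p q => by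
    simp only [sq, mul_smul, p, inv_smul_eq_iff.2 q.symm]
  generalize (b⁻¹ * a) ^ 2 = z at *
  have hP : ∀ {h : SU 4 F q}, Commute z h → ∀ v : Fin 4 → F, z • v = -v → z • h • v = -(h • v) :=
    fun e v hv => by rw [← mul_smul, e.eq, mul_smul, hv, smul_neg]
  have sp : ∀ v : Fin 4 → F, z • v = -v → comb p (coord q p v) = v := fun v hv =>
    hp.eq_comb fun w hw => mul_left_cancel₀ h2 (by
      have := SU_herm z w v
      rw [h1' w hw, hv, herm_neg_right] at this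
      linear_combination -this)
  obtain ⟨v, v0, v1, v2⟩ := exists_fix3 h3 hc (P := fun v => z • v = -v) (x := p 0)
    (fun v hv => by rw [smul_sub, hP zc v hv, hv, neg_sub_neg, neg_sub])
    (fun h => by simpa [h, herm_zero_left] using hp.unit 0) (h1 0)
  have key : ∀ {h : SU 4 F q}, h ^ 3 = 1 → Commute z h → Commute c h →
      h • v = v ∨ ∀ w : Fin 4 → F, z • w = -w → c • w = w := by
    intro h e1 e2 e3
    refine (dep_or_span (x := coord q p v) (fun h => v0 (by rw [← sp v v1, h, comb_zero]))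
      (coord q p (h • v))).elim (fun hl => Or.inl ?_) fun H => Or.inr fun w hw => ?_
    · obtain ⟨l, hl⟩ := hl
      have e := congrArg (comb p) hl
      rw [comb_smul, sp v v1, sp _ (hP e2 v v1)] at e
      have : h ^ 3 • v = l ^ 3 • v := by
        simp only [pow_three, mul_smul, e, SU_smul_comm]
      rw [e1, one_smul, eq_comm, ← sub_eq_zero, ← one_smul F v, smul_smul, ← sub_smul,
        smul_eq_zero_iff_left v0] at this
      rw [e, sub_eq_zero.1 (pow_eq_zero_iff three_ne_zero |>.1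
        (by linear_combination this + (l - l ^ 2) * h3 : (l - 1) ^ 3 = 0)), one_smul]
    · obtain ⟨α, β, e⟩ := H (coord q p w)
      rw [← sp w hw, e, comb_add, comb_smul, comb_smul, sp v v1, sp _ (hP e2 v v1), smul_add,
        SU_smul_comm, SU_smul_comm, ← mul_smul c, e3.eq, mul_smul, v2]
  have H : ∀ w : Fin 4 → F, z • w = -w → c • w = w := by
    refine (key ha za ca).elim (fun e => (key hb zb cb).resolve_left fun e' => v0 ?_) id
    refine (smul_eq_zero_iff_right h2).1 ?_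
    rw [two_smul, ← eq_neg_iff_add_eq_zero, ← v1, fz v e e']
  obtain ⟨x, x1, x2⟩ := hp.exists_unit (by simp)
  obtain ⟨y, y1, y2⟩ := (on_cons.2 ⟨x1, x2, hp⟩).exists_unit (by simp)
  obtain ⟨γ, rfl⟩ := (mem_range_emb (on2 y1 x1 (y2 0))).2 fun w hw => H w (by
    have e := (on_cons.2 ⟨y1, y2, on_cons.2 ⟨x1, x2, hp⟩⟩).comb_coord w
    have w0 : hermForm 4 F q w y = 0 := hw 0
    have w1 : hermForm 4 F q w x = 0 := hw 1
    rw [← e]
    simp [comb, coord, Fin.sum_univ_succ, w0, w1, SU_smul_comm, h1, add_comm])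
  obtain ⟨u, u0, -, hu⟩ := exists_fix3 h3 (g := γ) (emb_injective _ (by rw [map_pow, hc, map_one]))
    (P := fun _ => True) (fun _ _ => trivial) (ee_ne_zero 0) trivial
  exact ⟨_, (SU2_tv u0 hu fun h => c1 (by rw [h, map_one])).emb _⟩

theorem Std.lift_tv {θ : SU 3 F q →* G} {A B V : Subgroup G} (h : Std θ A B V)
    {g : SU n F q →* G} (hV : V ≤ g.range) {t : SU 3 F q} {u : Fin 3 → F} (ht : Tv t u)
    {t' : SU n F q} {u' : Fin n → F} (ht' : Tv t' u') (e : g t' = θ t) (s : SU 3 F q)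
    (v : Fin 3 → F) (hs : Tv s v) : ∃ t' u', Tv t' u' ∧ g t' = θ s := by
  obtain ⟨x, rfl⟩ := ht.exists_conj le_rfl hs
  obtain ⟨y, hy⟩ := hV (h.mem x)
  exact ⟨_, _, ht'.conj y, by simp [hy, e]⟩

theorem exists_four3 {F : Type*} [Field F] [UF F 3] {θ₀ θ₁ : SU 3 F 3 →* G}
    {A B C V W : Subgroup G} (h₀ : Std θ₀ A B V) (h₁ : Std θ₁ B C W)
    (coh : ∀ x, θ₀ (iR x) = θ₁ (iL x)) (hc : ∀ x ∈ A, ∀ y ∈ C, x * y = y * x)
    {g : SU 4 F 3 →* G} (hr : g.range = V ⊔ W) :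
    ∃ θ : SU 4 F 3 →* G, θ.range = V ⊔ W ∧ (∀ x, θ (iL x) = θ₀ x) ∧ ∀ x, θ (iR x) = θ₁ x := by
  have hV : V ≤ g.range := le_sup_left.trans hr.ge
  have hW : W ≤ g.range := le_sup_right.trans hr.ge
  have hg := ker_le_center h₀ hV
  have h3 : (3 : F) = 0 := by
    obtain ⟨p, hp, h, h', -⟩ := exists_char (F := F) (q := 3)
    rwa [(Nat.prime_dvd_prime_iff_eq hp Nat.prime_three).1 h'] at h
  have z4 : ∀ z, g z = 1 → z ^ 4 = 1 := fun z hz => center_pow (by omega) (hg hz)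
  have lift : ∀ y ∈ g.range, y ^ 3 = 1 → ∃ x, g x = y ∧ x ^ 3 = 1 := by
    rintro _ ⟨x, rfl⟩ h
    exact ⟨x ^ 4, by rw [map_pow, pow_succ, h, one_mul], by
      rw [← pow_mul, mul_comm, pow_mul, z4 _ (by rw [map_pow, h])]⟩
  have uniq : ∀ x x', x ^ 3 = 1 → x' ^ 3 = 1 → g x = g x' → x = x' := fun x x' h h' e => by
    have e1 : g (x⁻¹ * x') = 1 := by simp [e]
    have e2 : Commute x (x⁻¹ * x') := Subgroup.mem_center_iff.1 (hg e1) x
    have e3 := e2.mul_pow 3
    rw [mul_inv_cancel_left, h, h', one_mul] at e3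
    have e4 := z4 _ e1
    rwa [pow_succ, ← e3, one_mul, inv_mul_eq_one] at e4
  obtain ⟨u, v, s, t, hs, ht, hst, hne, -⟩ := exists_gen_SU2 (F := F) (q := 3)
  have s3 : s ^ 3 = 1 := hs.pow_eq_one (p := 3) h3
  have t3 : t ^ 3 = 1 := ht.pow_eq_one (p := 3) h3
  obtain ⟨a, ea, a3⟩ := lift _ (hV (h₀.mem (iL s))) (by rw [← map_pow, ← map_pow, s3]; simp)
  obtain ⟨b, eb, b3⟩ := lift _ (hV (h₀.mem (iL t))) (by rw [← map_pow, ← map_pow, t3]; simp)
  obtain ⟨c, ec, c3⟩ := lift _ (hW (h₁.mem (iR s))) (by rw [← map_pow, ← map_pow, s3]; simp)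
  have cj : ∀ x y z, y ^ 3 = 1 → z ^ 3 = 1 → g x * g y = g z * g x → x * y = z * x :=
    fun x y z hy hz e => mul_inv_eq_iff_eq_mul.1 (uniq _ _ (by rw [conj_pow, hy]; simp) hz
      (by simp [e]))
  obtain ⟨w, hw⟩ := tv_of_commute h3 a3 b3 c3
    ((cj (a * b) a b a3 b3 (by simp only [map_mul g, ea, eb, ← map_mul θ₀, ← map_mul iL, hst,
      mul_assoc])).trans (mul_assoc _ _ _).symm)
    (cj a c c c3 c3 (by rw [ea, ec]; exact hc _ (h₀.memL _) _ (h₁.memR _))).symm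
    (cj b c c c3 c3 (by rw [eb, ec]; exact hc _ (h₀.memL _) _ (h₁.memR _))).symm
    (fun hz => by
      have e : g ((b⁻¹ * a) ^ 2) = θ₀ (iL ((t⁻¹ * s) ^ 2)) := by simp [ea, eb]
      have := iL_injective ((eq_one_of_center (by omega) (mem_center_of_map h₀.ker le_rfl
        fun x => by
          obtain ⟨y, hy⟩ := hV (h₀.mem x)
          rw [← e, ← hy]
          exact (Commute.map (Subgroup.mem_center_iff.1 hz y) g).symm) (ee_ne_zero _)
        (iL_smul_last _)).trans (map_one _).symm)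
      have e2 := SU2_smul_eq_neg (fun h => one_ne_zero (by linear_combination h3 - h : (1 : F) = 0))
        (sq (t⁻¹ * s) ▸ this) fun h => hne (inv_mul_eq_one.1 h).symm
      have e3 : Commute t (t⁻¹ * s) := Subgroup.mem_center_iff.1
        (mem_center_of_scalar (e := -1) fun x => by rw [e2, neg_one_smul]) t
      exact not_commute_of_braid hst hne (by simpa using ((Commute.refl t).mul_right e3).symm))
    (fun h => hs.ne_one (h₁.injR (by simpa [h] using ec.symm)))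
  have T₁ := h₁.lift_tv hW (hs.emb (on_ee (Fin.succ_injective 2))) hw ec
  obtain ⟨t', u', ht', e'⟩ := T₁ _ _ (hs.emb (on_ee (Fin.castSucc_injective 2)))
  have T₀ := h₀.lift_tv hV (hs.emb (on_ee (Fin.succ_injective 2))) ht' (e'.trans (coh s).symm)
  obtain ⟨θ, r, -, e1, e2, e3⟩ := exists_four h₀ h₁ coh hc hg (Or.inr rfl) T₀ T₁
  exact ⟨θ, r.trans hr, DFunLike.congr_fun (hom_ext3 (φ := θ.comp iL) le_rfl e1 e2),
    DFunLike.congr_fun (hom_ext3 (φ := θ.comp iR) le_rfl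
      (fun x => by rw [MonoidHom.comp_apply, ← iL_iR, e2, coh]) e3)⟩

theorem exists_range_of_surj {U : Fin n → Fin n → Subgroup G} {H : Type*} [Group H]
    (h4 : ∀ i j k : Fin n, (i : ℕ) + 1 = j → (j : ℕ) + 1 = k →
      ∃ g : H →* ↥(U i j ⊔ U j k), Function.Surjective g) {i : ℕ} (hi : i + 4 ≤ n + 1) :
    ∃ g : H →* G, g.range = extV U i ⊔ extV U (i + 1) := by
  obtain ⟨g, hg⟩ := h4 ⟨i, by omega⟩ ⟨i + 1, by omega⟩ ⟨i + 2, by omega⟩ rfl rfl
  refine ⟨(Subgroup.subtype _).comp g, ?_⟩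
  rw [MonoidHom.range_comp, MonoidHom.range_eq_top.2 hg, ← MonoidHom.range_eq_map,
    Subgroup.range_subtype, extV_eq U (by omega), extV_eq U (by omega)]

end Cfsg.Agent.CT.U
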