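import Mathlib
import Cfsg.Agent.CT.UFour3

/-!
Phan's theorem for `q = 2`.
-/

set_option autoImplicit false
set_option linter.unusedSectionVars false

namespace Cfsg.Agent.CT.U

open Matrix Cfsg Cfsg.Agent.Class.U

variable {F : Type*} [Field F] {n k : ℕ} {G : Type*} [Group G]

theorem ON.eq_zero {q : ℕ} [UF F q] {b : Fin n → Fin n → F} (hb : ON q b) {v : Fin n → F}
    (h : ∀ i, hermForm n F q v (b i) = 0) : v = 0 := by
  rw [← hb.comb_coord v, show coord q b v = 0 from funext h, comb_zero]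

theorem eq_zero_of_iso {q : ℕ} [UF F q] (hn : 2 ≤ n) {v : Fin n → F}
    (h : ∀ u, hermForm n F q u u = 0 → hermForm n F q u v = 0) : v = 0 := by
  obtain ⟨e, he⟩ := exists_scalar_of_fix_lines (q := q) hn (M := rk1 q v v) fun u hu =>
    ⟨1, by simp [rk1_mulVec, h u hu]⟩
  obtain ⟨u, u0, hu⟩ := exists_isotropic (F := F) (q := q) hn
  obtain rfl : 1 = e := smul_left_injective F u0 (by simpa [rk1_mulVec, h u hu] using he u)
  by_contra h0
  exact h0 (eq_zero_of_herm_right (q := q) fun x => by simpa [rk1_mulVec, h0] using he x)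

variable [hU : UF F 2]

local notation "σ" => conj F 2
local notation "𝐡" => hermForm n F 2

variable (F) in
theorem two_eq_zero : (2 : F) = 0 := by
  obtain ⟨p, hp, h, h', -⟩ := exists_char (F := F) (q := 2)
  rwa [(Nat.prime_dvd_prime_iff_eq hp Nat.prime_two).1 h'] at h

theorem eq_one_of_trace {a : F} (h0 : a ≠ 0) (h : a + σ a = 0) : a = 1 :=
  mul_left_cancel₀ h0 (by rw [conj_apply] at h; linear_combination h - a * two_eq_zero F)

theorem eq_one_of_fixed {a : F} (h0 : a ≠ 0) (h : σ a = a) : a = 1 :=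
  eq_one_of_trace h0 (by linear_combination h + a * two_eq_zero F)

theorem Tv.isSiegel {g : SU n F 2} {u : Fin n → F} (h : Tv g u) : IsSiegel u 0 1 g := by
  obtain ⟨u0, hu, a, a0, ha⟩ := h
  have c := ha.cond u0 hu (herm_zero_left _)
  rw [herm_zero_left, add_zero] at c
  exact eq_one_of_trace a0 c ▸ ha

theorem add_self_vec (v : Fin n → F) : v + v = 0 := by
  rw [← two_smul F, two_eq_zero, zero_smul]

theorem siegel_sq {u w : Fin n → F} {a : F} {g : SU n F 2} (h : IsSiegel u w a g) (hu : 𝐡 u u = 0)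
    (hw : 𝐡 w u = 0) : IsSiegel u 0 (𝐡 w w) (g * g) := by
  have := h.mul h hu hw hw
  rwa [add_self_vec, show a + a - 𝐡 w w = 𝐡 w w by
    linear_combination (a - 𝐡 w w) * two_eq_zero F] at this

theorem siegel_pow_four {u w : Fin n → F} {a : F} {g : SU n F 2} (h : IsSiegel u w a g)
    (hu : 𝐡 u u = 0) (hw : 𝐡 w u = 0) : g ^ 4 = 1 := by
  have := siegel_sq (siegel_sq h hu hw) hu (herm_zero_left _)
  rw [herm_zero_left] at this
  rw [← this.unique (isSiegel_one u)]
  simp only [pow_succ, pow_zero, one_mul, mul_assoc]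

theorem Tv.exists_Q8 {t : SU 3 F 2} {u : Fin 3 → F} (h : Tv t u) :
    ∃ x y, x * x = t ∧ y * y = t ∧ x * y * (x * y) = t := by
  obtain ⟨v, hv, huv⟩ := exists_partner h.1 h.2.1
  obtain ⟨w, hw, -, hw'⟩ := exists_nonisotropic_perp le_rfl h.2.1 hv huv
  obtain ⟨c, hc, hc1⟩ := exists_norm_one_ne_one F 2
  have key : ∀ {d a : F} {g : SU 3 F 2}, d ≠ 0 → IsSiegel u (d • w) a g → g * g = t := by
    intro d a g hd hg
    refine IsSiegel.unique ?_ h.isSiegel
    rw [← eq_one_of_fixed (a := hermForm 3 F 2 (d • w) (d • w)) (by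
      simp [herm_smul_left, herm_smul_right, hd, hw']) (herm_conj _ _)]
    exact siegel_sq hg h.2.1 (by rw [herm_smul_left, hw, mul_zero])
  have hw2 : hermForm 3 F 2 (c • w) u = 0 := by rw [herm_smul_left, hw, mul_zero]
  obtain ⟨a, x, hx⟩ := exists_siegel' h.2.1 hw
  obtain ⟨b, y, hy⟩ := exists_siegel' h.2.1 hw2
  exact ⟨x, y, key one_ne_zero (by rwa [one_smul]), key (ne_zero_of_norm hc) hy,
    key (d := 1 + c) (fun h => hc1 (by linear_combination h - two_eq_zero F))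
      (by rw [add_smul, one_smul]; exact hx.mul hy h.2.1 hw hw2)⟩

theorem exists_fix2 {g : SU n F 2} {P : (Fin n → F) → Prop} (hg : ∀ v, P v → g • g • v = v)
    (hP : ∀ v, P v → P (g • v - v)) {x : Fin n → F} (h0 : x ≠ 0) (hx : P x) :
    ∃ v, v ≠ 0 ∧ P v ∧ g • v = v := by
  by_cases h : g • x = x
  · exact ⟨x, h0, hx, h⟩
  refine ⟨_, sub_ne_zero.2 h, hP x hx, ?_⟩
  rw [smul_sub, hg x hx, ← neg_sub, neg_eq_iff_add_eq_zero, add_self_vec]

theorem iso_sub {g : SU n F 2} {v : Fin n → F} (h : g • g • v = v) :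
    𝐡 (g • v - v) (g • v - v) = 0 := by
  have e := SU_herm g (g • v) v
  rw [h] at e
  simp only [herm_sub_left, herm_sub_right, SU_herm]
  linear_combination -e + (𝐡 v v - 𝐡 (g • v) v) * two_eq_zero F

theorem SU2_tv_of_sq {A : SU 2 F 2} (h : A * A = 1) (h1 : A ≠ 1) : ∃ u, Tv A u := by
  obtain ⟨u, u0, -, hu⟩ := exists_fix2 (g := A) (P := fun _ => True)
    (fun v _ => by rw [← mul_smul, h, one_smul]) (fun _ _ => trivial) (ee_ne_zero 0) trivial
  exact ⟨u, SU2_tv u0 hu h1⟩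

theorem SU2_sq {A : SU 2 F 2} (h : A * A * (A * A) = 1) : A * A = 1 := by
  by_contra h1
  obtain ⟨u, hu⟩ := SU2_tv_of_sq h h1
  have := hu.conj A
  rw [show A * (A * A) * A⁻¹ = A * A by group] at this
  obtain ⟨l, hl⟩ := hu.exists_smul this
  have e := hu.smul_eq_iff.2 hu.2.1
  rw [mul_smul, hl, SU_smul_comm, hl, smul_smul] at e
  have e' : l * l = 1 := smul_left_injective F hu.1 (e.trans (one_smul _ _).symm)
  rw [sub_eq_zero.1 (mul_self_eq_zero.1 (by
    linear_combination e' + (1 - l) * two_eq_zero F : (l - 1) * (l - 1) = 0)), one_smul] at hl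
  exact h1 (sq A ▸ (SU2_tv hu.1 hl (by rintro rfl; simp at h1)).pow_eq_one (p := 2) (two_eq_zero F))

theorem SU2_klein {A B : SU 2 F 2} (hA : A * A = 1) (hB : B * B = 1) (h : A * B * (A * B) = 1) :
    A = 1 ∨ B = 1 ∨ A * B = 1 := by
  refine or_iff_not_imp_left.2 fun a => or_iff_not_imp_left.2 fun b => ?_
  obtain ⟨u, hu⟩ := SU2_tv_of_sq hA a
  obtain ⟨v, hv⟩ := SU2_tv_of_sq hB b
  have : Commute B A := by
    rw [Commute, SemiconjBy, ← inv_eq_of_mul_eq_one_right h, _root_.mul_inv_rev,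
      inv_eq_of_mul_eq_one_right hA, inv_eq_of_mul_eq_one_right hB]
  rw [(SU2_tv hv.1 (hu.smul_eq_iff.2 ((hv.commute_iff hu).1 this)) a).isSiegel.unique hv.isSiegel,
    hB]

theorem tv_of_Q8 {x y T : SU 4 F 2} (hx : x * x = T) (hy : y * y = T) (hxy : x * y * (x * y) = T)
    (hT : T * T = 1) (h1 : T ≠ 1) : ∃ r, Tv T r := by
  have c : ∀ {h : SU 4 F 2}, h * h = T → ∀ v : Fin 4 → F, T • v = v ∧ hermForm 4 F 2 v v = 0 →
      h • h • v = v ∧ T • (h • v - v) = h • v - v ∧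
        hermForm 4 F 2 (h • v - v) (h • v - v) = 0 := fun {h} e v hv => by
    have := hv.1
    rw [← e, mul_smul] at this
    exact ⟨this, by rw [smul_sub, hv.1, ← e, mul_smul, this], iso_sub this⟩
  obtain ⟨v, hv⟩ : ∃ v : Fin 4 → F, T • v - v ≠ 0 := by
    by_contra h; push Not at h; exact h1 (SU_ext fun v => by rw [sub_eq_zero.1 (h v), one_smul])
  have TT : T • T • v = v := by rw [← mul_smul, hT, one_smul]
  obtain ⟨v, v0, hv, xv⟩ := exists_fix2 (fun v h => (c hx v h).1) (fun v h => (c hx v h).2) hv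
    ⟨by rw [smul_sub, TT, ← neg_sub, neg_eq_iff_add_eq_zero, add_self_vec], iso_sub TT⟩
  obtain ⟨e, e0, ⟨⟨-, he⟩, xe⟩, ye⟩ := exists_fix2 (g := y)
    (P := fun v => (T • v = v ∧ hermForm 4 F 2 v v = 0) ∧ x • v = v) (fun v h => (c hy v h.1).1)
    (fun v h => ⟨(c hy v h.1).2, by
      have : x * y = y⁻¹ * x := by
        rw [← hx, mul_assoc, mul_right_inj] at hxy; rw [eq_inv_mul_iff_mul_eq, hxy]
      rw [smul_sub, ← mul_smul, this, mul_smul, h.2, inv_smul_eq_iff.2 (c hy v h.1).1.symm]⟩) v0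
    ⟨hv, xv⟩
  obtain ⟨f, hf, ef⟩ := exists_partner e0 he
  have fe := herm_comm_one ef
  obtain ⟨a, b, hab, H⟩ := exists_plane_basis he (r' := f) (fe ▸ one_ne_zero)
  obtain ⟨c, c1, c2⟩ := hab.exists_unit (by simp)
  obtain ⟨d, d1, d2⟩ := (on_cons.2 ⟨c1, c2, hab⟩).exists_unit (by simp)
  have hb := on_cons.2 ⟨d1, d2, on_cons.2 ⟨c1, c2, hab⟩⟩
  have hp := on2 d1 c1 (d2 0)
  have o : ∀ i, hermForm 4 F 2 (![d, c] i) e = 0 ∧ hermForm 4 F 2 (![d, c] i) f = 0 := fun i => by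
    fin_cases i; exacts [(H d).1 ⟨d2 1, d2 2⟩, (H c).1 ⟨c2 0, c2 1⟩]
  have oe : ∀ u, hermForm 4 F 2 (comb ![d, c] u) e = 0 := fun u => by
    simp only [comb, herm_sum_left, herm_smul_left, (o _).1, mul_zero, Finset.sum_const_zero]
  have z : ∀ v, hermForm 4 F 2 v e = 0 → hermForm 4 F 2 v f = 0 →
      (∀ i, hermForm 4 F 2 v (![d, c] i) = 0) → v = 0 := fun v p q r => hb.eq_zero fun i => by
    fin_cases i; exacts [r 0, r 1, ((H v).2 ⟨p, q⟩).1, ((H v).2 ⟨p, q⟩).2]
  let R : SU 4 F 2 → SU 2 F 2 → Prop := fun h γ => h • e = e ∧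
    ∀ u, ∃ l : F, h • comb ![d, c] u = comb ![d, c] (γ • u) + l • e
  have ex : ∀ h, h • e = e → ∃ γ, R h γ := fun h hh => by
    have h1 : hermForm 4 F 2 (h • f) e = hermForm 4 F 2 f e := by rw [← hh, SU_herm, hh]
    obtain ⟨a, s, hs, s1, s2⟩ := exists_siegel_move he h1 (by rw [h1, fe]; exact one_ne_zero)
      (SU_herm h f f)
    obtain ⟨γ, hγ⟩ := (mem_range_emb hp (s := s * h)).2 fun v hv => by
      have := z (v - hermForm 4 F 2 v f • e - hermForm 4 F 2 v e • f)
        (by simp [herm_sub_left, herm_smul_left, he, fe])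
        (by simp [herm_sub_left, herm_smul_left, hf, ef]) fun i => by
          rw [herm_sub_left, herm_sub_left, herm_smul_left, herm_smul_left, hv,
            herm_comm_zero (o i).1, herm_comm_zero (o i).2]; ring
      rw [sub_sub, sub_eq_zero] at this
      rw [this, smul_add, SU_smul_comm, SU_smul_comm, mul_smul, mul_smul, hh, s1, s2]
    refine ⟨γ, hh, fun u => ⟨hermForm 4 F 2 (h • comb ![d, c] u)
      ((hermForm 4 F 2 (h • f) e)⁻¹ • (f - h • f)), ?_⟩⟩
    rw [← emb_smul_comb hp, hγ, mul_smul, hs, ← hh, SU_herm, oe]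
    simp
  have mul : ∀ {h h' γ γ'}, R h γ → R h' γ' → R (h * h') (γ * γ') := fun {_ _ _ γ'} r r' =>
    ⟨by rw [mul_smul, r'.1, r.1], fun u => by
      obtain ⟨l', e'⟩ := r'.2 u
      obtain ⟨l, e⟩ := r.2 (γ' • u)
      exact ⟨l + l', by rw [mul_smul, e', smul_add, e, SU_smul_comm, r.1, mul_smul, add_smul,
        add_assoc]⟩⟩
  have sq : ∀ {h γ}, h * h = T → R h γ → γ * γ = 1 := fun {h γ} e r => SU2_sq (SU_ext fun u => by
    obtain ⟨l, hl⟩ := (mul (mul r r) (mul r r)).2 u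
    rw [e, hT, one_smul] at hl
    have := congrArg (coord 2 ![d, c]) hl
    rw [coord_add, hp.coord_comb, hp.coord_comb] at this
    refine (add_eq_left.2 ?_).symm.trans (this.symm.trans (one_smul _ _).symm)
    funext i
    rw [coord, herm_smul_left, herm_comm_zero (o i).1, mul_zero]; rfl)
  have fin : ∀ {h}, h * h = T → R h 1 → ∃ r, Tv T r := fun {h} hh r => ⟨e, tv_of_in (fun v => by
    have h1 : hermForm 4 F 2 (h • v - v) e = 0 := by
      rw [herm_sub_left, ← r.1, SU_herm, r.1, sub_self]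
    generalize hw : h • v - v = w at h1
    have := z (w - comb ![d, c] (coord 2 ![d, c] w) -
      hermForm 4 F 2 (w - comb ![d, c] (coord 2 ![d, c] w)) f • e)
      (by simp [herm_sub_left, herm_smul_left, he, h1, oe])
      (by simp [herm_sub_left, herm_smul_left, ef]) fun i => by
        rw [herm_sub_left, herm_smul_left, herm_comm_zero (o i).1, mul_zero, sub_zero]
        exact congrFun (hp.coord_sub_comb w) i
    rw [sub_sub, sub_eq_zero] at this
    obtain ⟨l, hl⟩ := r.2 (coord 2 ![d, c] w)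
    have e1 : h • w = w + l • e := by
      rw [this, smul_add, hl, SU_smul_comm, r.1, one_smul, add_right_comm]
    rw [sub_eq_iff_eq_add] at hw
    refine ⟨l, ?_⟩
    rw [← hh, mul_smul, hw, smul_add, e1, hw, add_add_add_comm, add_self_vec, zero_add,
      add_comm]) h1⟩
  obtain ⟨A, hA⟩ := ex x xe
  obtain ⟨B, hB⟩ := ex y ye
  rcases SU2_klein (sq hx hA) (sq hy hB) (sq hxy (mul hA hB)) with h | h | h
  exacts [fin hx (h ▸ hA), fin hy (h ▸ hB), fin hxy (h ▸ mul hA hB)]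

theorem hom_ext2 {χ : SU 3 F 2 →* SU 4 F 2} {b : Fin 3 → Fin 4 → F} (hb : ON 2 b)
    (h1 : ∀ x, χ (iL x) = emb hb (iL x)) (h2 : ∀ x, χ (iR x) = emb hb (iR x)) (x : SU 3 F 2) :
    χ x = emb hb x := by
  have L : ∀ {s}, s • ee F (2 : Fin 3) = ee F 2 → χ s = emb hb s := fun h => by
    obtain ⟨x, rfl⟩ := (mem_range_iL (n := 2)).2 h; exact h1 x
  have R : ∀ {s}, s • ee F (0 : Fin 3) = ee F 0 → χ s = emb hb s := fun h => by
    obtain ⟨x, rfl⟩ := (mem_range_iR (n := 2)).2 h; exact h2 x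
  have T : ∀ {t u}, Tv t u → χ t = emb hb t := fun {t u} h => by
    have f : ∀ i, u i = 0 → t • ee F i = ee F i := fun i hi =>
      h.smul_eq_iff.2 (herm_comm_zero (by rw [herm_single_right, hi]))
    by_cases u2 : u 2 = 0
    · exact L (f 2 u2)
    by_cases u0 : u 0 = 0
    · exact R (f 0 u0)
    by_cases u1 : u 1 = 0
    · have u := (on_single (F := F) (q := 2) (n := 3)).unit
      have o := (on_single (F := F) (q := 2) (n := 3)).orth
      obtain ⟨s, hs⟩ := (on2 (u 0) (u 2) (o 0 2 (by decide))).witt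
        (on2 (u 0) (u 1) (o 0 1 (by decide))) (by simp)
      have s2 : s • ee F 2 = ee F 1 := hs 1
      have := L (s := s⁻¹ * t * s) (by rw [mul_smul, mul_smul, s2, f 1 u1, inv_smul_eq_iff, s2])
      simpa [R (hs 0)] using this
    have N : ∀ {a : F}, a ≠ 0 → a * σ a = 1 := fun h =>
      eq_one_of_fixed (by simp [h]) (by rw [map_mul, conj_conj, mul_comm])
    have := h.2.1
    rw [herm_eq, Fin.sum_univ_three, N u0, N u1, N u2] at this
    exact (one_ne_zero (by linear_combination this - two_eq_zero F : (1 : F) = 0)).elim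
  have line : ∀ x u, hermForm 3 F 2 u u = 0 → ∃ l : F, χ x • comb b u = l • comb b (x • u) := by
    intro x u hu
    by_cases h0 : u = 0
    · exact ⟨0, by simp [h0, comb_zero]⟩
    obtain ⟨t, ht⟩ := exists_tv h0 hu
    have := (ht.emb hb).conj (χ x)
    rw [← T ht, ← map_inv, ← map_mul, ← map_mul, T (ht.conj x)] at this
    exact ((ht.conj x).emb hb).exists_smul this
  obtain ⟨w, w1, w2⟩ := hb.exists_unit (by simp)
  have sp : ∀ v, (∀ i, hermForm 4 F 2 v (b i) = 0) → v = hermForm 4 F 2 v w • w := fun v hv =>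
    sub_eq_zero.1 ((on_cons.2 ⟨w1, w2, hb⟩).eq_zero fun i => Fin.cases (herm_sub_proj_orth w1 v)
      (fun i => by
        change hermForm 4 F 2 _ (b i) = 0
        rw [herm_sub_left, herm_smul_left, hv, w2]; ring) i)
  refine (eq_top_of_siegel_mem (H := χ.eqLocus (emb hb)) (fun u v a x _ hu hv hx => ?_) ▸
    Subgroup.mem_top x : x ∈ χ.eqLocus (emb hb))
  have x4 := siegel_pow_four hx hu hv
  have e1 := sp (χ x • w) (congrFun (eq_zero_of_iso (q := 2) (v := coord 2 b (χ x • w)) (by omega)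
    fun u hu => by
      obtain ⟨l, hl⟩ := line x⁻¹ u hu
      rw [← herm_comb_left, ← SU_herm (χ x⁻¹), hl, map_inv, inv_smul_smul, herm_smul_left,
        herm_comb_left, show coord 2 b w = 0 from funext w2, herm_zero_right, mul_zero]))
  generalize hermForm 4 F 2 (χ x • w) w = c at e1
  have w0 : w ≠ 0 := by rintro rfl; simp [herm_zero_left] at w1
  have c3 : c * σ c = 1 := by
    rw [← w1, ← SU_herm (χ x), e1, herm_smul_left, herm_smul_right, w1, mul_one]
  have c4 : c ^ 4 = 1 := smul_left_injective F w0 (by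
    have : χ x ^ 4 • w = c ^ 4 • w := by
      simp only [pow_succ, pow_zero, one_mul, mul_smul, e1, SU_smul_comm]
    rw [← map_pow, x4, map_one, one_smul] at this
    exact this.symm.trans (one_smul _ _).symm)
  obtain rfl : c = 1 := by rw [conj_apply] at c3; linear_combination c4 - c * c3
  obtain ⟨y, hy⟩ := (mem_range_emb hb (s := χ x)).2 fun v hv => by
    rw [sp v hv, SU_smul_comm, e1, one_smul]
  have hz : x⁻¹ * y ∈ Subgroup.center _ := mem_center_of_fix_lines (by omega) fun u hu => by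
    obtain ⟨l, hl⟩ := line x u hu
    rw [← hy, emb_smul_comb, ← comb_smul, hb.comb_injective.eq_iff] at hl
    exact ⟨l, by rw [mul_smul, hl, SU_smul_comm, inv_smul_smul]⟩
  have z3 : (x⁻¹ * y) ^ 3 = 1 := center_pow (by omega) hz
  have z4 := (show Commute x (x⁻¹ * y) from Subgroup.mem_center_iff.1 hz x).mul_pow 4
  rw [mul_inv_cancel_left, x4, one_mul, pow_succ (x⁻¹ * y) 3, z3, one_mul,
    emb_injective hb (show emb hb (y ^ 4) = emb hb 1 by
      rw [map_pow, hy, ← map_pow, x4, map_one, map_one]), eq_comm, inv_mul_eq_one] at z4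
  exact hy.symm.trans (z4 ▸ rfl)

theorem exists_four2 {θ₀ θ₁ : SU 3 F 2 →* G}
    {A B C V W : Subgroup G} (h₀ : Std θ₀ A B V) (h₁ : Std θ₁ B C W)
    (coh : ∀ x, θ₀ (iR x) = θ₁ (iL x)) (hc : ∀ x ∈ A, ∀ y ∈ C, x * y = y * x)
    {g : SU 4 F 2 →* G} (hr : g.range = V ⊔ W) :
    ∃ θ : SU 4 F 2 →* G, θ.range = V ⊔ W ∧ (∀ x, θ (iL x) = θ₀ x) ∧ ∀ x, θ (iR x) = θ₁ x := by
  have hV : V ≤ g.range := le_sup_left.trans hr.ge
  have hW : W ≤ g.range := le_sup_right.trans hr.ge
  have hg := ker_le_center h₀ hV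
  have inj : ∀ {g : SU 4 F 2 →* G}, g.ker ≤ Subgroup.center _ → Function.Injective g :=
    fun h => (injective_iff_map_eq_one _).2 fun x hx => by simpa using center_pow (by omega) (h hx)
  have lift : ∀ {g : SU 4 F 2 →* G} {θ : SU 3 F 2 →* G}, g.ker ≤ Subgroup.center _ →
      θ.range ≤ g.range → ∃ χ : SU 3 F 2 →* SU 4 F 2, ∀ x, g (χ x) = θ x := fun {g θ} h h' =>
    ⟨((MonoidHom.ofInjective (inj h)).symm.toMonoidHom.comp (Subgroup.inclusion h')).comp
      θ.rangeRestrict, fun x => MonoidHom.apply_ofInjective_symm (inj h) _⟩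
  have T : ∀ {θ : SU 3 F 2 →* G} {A B V}, Std θ A B V → V ≤ g.range →
      ∀ t u, Tv t u → ∃ t' u', Tv t' u' ∧ g t' = θ t := fun h hV t u ht => by
    obtain ⟨χ, hχ⟩ := lift hg (h.range.le.trans hV)
    obtain ⟨x, y, e1, e2, e3⟩ := ht.exists_Q8
    obtain ⟨v, v0, hv⟩ := exists_ne_zero_orth (q := 2) ![u] (by simp)
    obtain ⟨r, hr⟩ := tv_of_Q8 (x := χ x) (y := χ y) (T := χ t) (by rw [← map_mul, e1])
      (by rw [← map_mul, e2]) (by simp only [← map_mul, e3])
      (by rw [← map_mul, ← sq, ht.pow_eq_one (p := 2) (two_eq_zero F), map_one]) fun e =>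
        ht.ne_one (eq_one_of_center (by omega) (h.ker (by simp [← hχ, e])) v0
          (ht.smul_eq_iff.2 (hv 0)))
    exact ⟨_, r, hr, hχ t⟩
  obtain ⟨θ, r, k, e1, e2, e3⟩ := exists_four h₀ h₁ coh hc hg (Or.inl rfl) (T h₀ hV) (T h₁ hW)
  obtain ⟨χ₀, c₀⟩ := lift k (h₀.range.le.trans (hV.trans r.ge))
  obtain ⟨χ₁, c₁⟩ := lift k (h₁.range.le.trans (hW.trans r.ge))
  refine ⟨θ, r.trans hr, fun x => ?_, fun x => ?_⟩
  · rw [← c₀, hom_ext2 (on_ee (Fin.castSucc_injective 3)) (fun x => inj k ((c₀ _).trans (e1 x).symm))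
      fun x => inj k ((c₀ _).trans (e2 x).symm)]; rfl
  · rw [← c₁, hom_ext2 (on_ee (Fin.succ_injective 3)) (fun x => inj k ((c₁ _).trans
      ((coh x).symm.trans ((e2 x).symm.trans (congrArg θ (iL_iR _))))))
      fun x => inj k ((c₁ _).trans (e3 x).symm)]; rfl

end Cfsg.Agent.CT.U
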